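import Mathlib.RingTheory.AlgebraicIndependent.TranscendenceBasis
import Mathlib.RingTheory.Extension.Presentation.Core
import Mathlib.RingTheory.Ideal.MinimalPrime.Localization
import Mathlib.RingTheory.Ideal.MinimalPrime.Noetherian
import Mathlib.RingTheory.KrullDimension.Polynomial
import Mathlib.RingTheory.KrullDimension.Field
import Mathlib.RingTheory.Localization.FractionRing
import Mathlib.Data.Set.Card.Arithmetic

/-!
# The number of components of geometric fibres of a finitely presented algebra is bounded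

For a finitely presented `R`-algebra `B` there is `N` such that for every field `Ω` under `R` the
ring `Ω ⊗[R] B` has at most `N` minimal primes.
-/

set_option autoImplicit false
set_option linter.style.haveILetI false
open TensorProduct

namespace GrothLib.GrpClass19

universe u

/-- A finitely generated algebraic extension of domains is free of finite rank away from one element,
in elementary form. -/
theorem exists_frame (A D : Type u) [CommRing A] [IsDomain A] [CommRing D] [IsDomain D] [Algebra A D]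
    [Algebra.IsAlgebraic A D] [Algebra.FiniteType A D] :
    ∃ (n : ℕ) (e : Fin n → D) (h : A), h ≠ 0 ∧ LinearIndependent A e ∧
      ∀ z : D, ∃ k : ℕ, h ^ k • z ∈ Submodule.span A (Set.range e) := by
  classical
  obtain ⟨s, hs⟩ := Algebra.FiniteType.out (R := A) (A := D)
  choose a ha hint using fun z : D => (Algebra.IsAlgebraic.isAlgebraic (R := A) z).exists_integral_multiple
  let a₀ : A := ∏ y ∈ s, a y
  have ha₀ : a₀ ≠ 0 := Finset.prod_ne_zero_iff.mpr fun y _ => ha y
  let C : Subalgebra A D := Algebra.adjoin A ((fun y => a₀ • y) '' ↑s)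
  have hC : C.toSubmodule.FG := fg_adjoin_of_finite (s.finite_toSet.image _) (by
    rintro _ ⟨y, hy, rfl⟩
    obtain ⟨c, hc⟩ : a y ∣ a₀ := Finset.dvd_prod_of_mem a hy
    show IsIntegral A (a₀ • y)
    rw [hc, mul_comm (a y) c, mul_smul]
    exact (hint y).smul c)
  have hpow : ∀ z : D, ∃ k : ℕ, a₀ ^ k • z ∈ C := by
    intro z
    have hz : z ∈ Algebra.adjoin A (↑s : Set D) := hs.symm ▸ Algebra.mem_top
    induction hz using Algebra.adjoin_induction with
    | mem y hy => exact ⟨1, by rw [pow_one]; exact Algebra.subset_adjoin ⟨y, hy, rfl⟩⟩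
    | algebraMap r => exact ⟨0, by rw [pow_zero, one_smul]; exact C.algebraMap_mem r⟩
    | add x y _ _ hx hy =>
      obtain ⟨k, hk⟩ := hx
      obtain ⟨l, hl⟩ := hy
      refine ⟨k + l, ?_⟩
      have h2 := C.add_mem (C.smul_mem hk (a₀ ^ l)) (C.smul_mem hl (a₀ ^ k))
      rw [smul_smul, smul_smul, mul_comm (a₀ ^ l), ← pow_add, ← smul_add] at h2
      exact h2
    | mul x y _ _ hx hy =>
      obtain ⟨k, hk⟩ := hx
      obtain ⟨l, hl⟩ := hy
      refine ⟨k + l, ?_⟩
      have h2 := C.mul_mem hk hl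
      rw [smul_mul_smul_comm, ← pow_add] at h2
      exact h2
  obtain ⟨v, hv⟩ := hC
  obtain ⟨I, hI, hmax⟩ := exists_maximal_linearIndepOn A (fun x : v => (x : D))
  choose! b hb hbI using hmax
  let b₀ : A := ∏ i : v, if i ∈ I then 1 else b i
  have hb₀ : b₀ ≠ 0 := Finset.prod_ne_zero_iff.mpr fun i _ => by split_ifs with hi <;> simp [hb, hi]
  let N := Submodule.span A ((fun x : v => (x : D)) '' I)
  have hbN : ∀ z ∈ C, b₀ • z ∈ N := by
    intro z hz
    have hz' : z ∈ Submodule.span A (↑v : Set D) := hv ▸ hz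
    induction hz' using Submodule.span_induction with
    | mem x hx =>
      by_cases hi : (⟨x, hx⟩ : v) ∈ I
      · exact N.smul_mem _ (Submodule.subset_span ⟨⟨x, hx⟩, hi, rfl⟩)
      · obtain ⟨c, hc⟩ : b ⟨x, hx⟩ ∣ b₀ := by
          have := Finset.dvd_prod_of_mem (fun i : v => if i ∈ I then (1 : A) else b i)
            (Finset.mem_univ (⟨x, hx⟩ : v))
          rwa [if_neg hi] at this
        rw [hc, mul_comm (b ⟨x, hx⟩) c, mul_smul]
        exact N.smul_mem c (hbI _ hi)
    | zero => rw [smul_zero]; exact N.zero_mem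
    | add x y hx hy ihx ihy =>
      rw [smul_add]
      exact N.add_mem (ihx (show x ∈ C.toSubmodule from hv ▸ hx)) (ihy (show y ∈ C.toSubmodule from hv ▸ hy))
    | smul r x hx ih =>
      rw [smul_comm]
      exact N.smul_mem r (ih (show x ∈ C.toSubmodule from hv ▸ hx))
  haveI : Fintype I := Fintype.ofFinite _
  let φ : Fin (Fintype.card I) ≃ I := (Fintype.equivFin I).symm
  refine ⟨_, fun i => ((φ i : v) : D), a₀ * b₀, mul_ne_zero ha₀ hb₀, hI.comp φ φ.injective, fun z => ?_⟩
  have hrange : Set.range (fun i => ((φ i : v) : D)) = (fun x : v => (x : D)) '' I := by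
    ext x
    constructor
    · rintro ⟨i, rfl⟩; exact ⟨φ i, (φ i).2, rfl⟩
    · rintro ⟨y, hy, rfl⟩; exact ⟨φ.symm ⟨y, hy⟩, by simp⟩
  obtain ⟨k, hk⟩ := hpow z
  refine ⟨k + 1, ?_⟩
  rw [hrange, mul_pow, pow_succ b₀, show a₀ ^ (k + 1) * (b₀ ^ k * b₀) = (a₀ * b₀ ^ k) * (b₀ * a₀ ^ k) by ring,
    mul_smul, mul_smul b₀]
  exact N.smul_mem _ (hbN _ hk)

/-- The coordinates with respect to a frame, in any field receiving `A` in which `h` is invertible. -/
theorem exists_coord {A D G : Type u} [CommRing A] [CommRing D] [Algebra A D] [Field G] {n : ℕ}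
    (e : Fin n → D) (h : A) (hli : LinearIndependent A e)
    (hspan : ∀ z : D, ∃ k : ℕ, h ^ k • z ∈ Submodule.span A (Set.range e)) (χ : A →+* G) (hχ : χ h ≠ 0) :
    ∃ c : D →+ (Fin n → G), (∀ (a : A) (z : D), c (a • z) = χ a • c z) ∧
      ∀ i, c (e i) = Pi.single i 1 := by
  classical
  choose k hk using hspan
  simp only [Submodule.mem_span_range_iff_exists_fun] at hk
  choose p hp using hk
  let c : D → (Fin n → G) := fun z j => χ (p z j) / χ h ^ k z
  have key : ∀ (z : D) (l : ℕ) (q : Fin n → A), ∑ j, q j • e j = h ^ l • z →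
      ∀ j, c z j = χ (q j) / χ h ^ l := by
    intro z l q hq j
    have : ∑ j, (h ^ l * p z j - h ^ k z * q j) • e j = 0 := by
      simp only [sub_smul, mul_smul, Finset.sum_sub_distrib, ← Finset.smul_sum, hp, hq]
      rw [smul_comm, sub_self]
    have h0 := sub_eq_zero.mp (Fintype.linearIndependent_iff.mp hli _ this j)
    show χ (p z j) / χ h ^ k z = χ (q j) / χ h ^ l
    rw [div_eq_div_iff (pow_ne_zero _ hχ) (pow_ne_zero _ hχ), ← map_pow, ← map_pow, ← map_mul, ← map_mul,
      mul_comm (p z j), h0, mul_comm]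
  refine ⟨AddMonoidHom.mk' c fun z w => funext fun j => ?_, fun a z => funext fun j => ?_,
    fun i => funext fun j => ?_⟩
  · rw [key (z + w) (k z + k w) (fun j => h ^ k w * p z j + h ^ k z * p w j) (by
      simp only [add_smul, mul_smul, Finset.sum_add_distrib, ← Finset.smul_sum, hp]
      rw [smul_smul, smul_smul, ← pow_add, ← pow_add, add_comm (k w), ← smul_add]) j]
    simp only [c, Pi.add_apply, map_add, map_mul, map_pow]
    field_simp
    ring
  · show c (a • z) j = χ a * c z j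
    rw [key (a • z) (k z) (fun j => a * p z j) (by
      simp only [mul_smul, ← Finset.smul_sum, hp]
      rw [smul_comm]) j, map_mul, mul_div_assoc]
  · show c (e i) j = _
    rw [key (e i) 0 (Pi.single i 1) (by simp [Pi.single_apply]) j, pow_zero, div_one]
    simp [Pi.single_apply, apply_ite χ]

theorem encard_minimalPrimes_le_of_frame {T W : Type u} [CommRing T] [CommRing W] [IsDomain W]
    (ω : W →+* T) (J : Ideal T) {n : ℕ} (E : Fin n → T) (η : T)
    (hgen : ∀ t, ∃ (k : ℕ) (s : Fin n → W), η ^ k * t - ∑ j, ω (s j) * E j ∈ J)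
    (hind : ∀ s : Fin n → W, ∑ j, ω (s j) * E j ∈ J → s = 0) :
    {Q | Q ∈ J.minimalPrimes ∧ η ∉ Q}.encard ≤ n := by
  classical
  have hzero : ∀ Q ∈ J.minimalPrimes, η ∉ Q → ∀ w : W, ω w ∈ Q → w = 0 := by
    intro Q hQ hη w hw
    by_contra hw0
    haveI := hQ.1.1
    let S : Submonoid T :=
      { carrier := {x | ∃ (m : ℕ) (y : T), y ∉ Q ∧ ω w ^ m * y = x}
        one_mem' := ⟨0, 1, fun h => hQ.1.1.ne_top ((Ideal.eq_top_iff_one Q).mpr h), by simp⟩
        mul_mem' := by
          rintro _ _ ⟨m, y, hy, rfl⟩ ⟨m', y', hy', rfl⟩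
          exact ⟨m + m', y * y', fun h => (Ideal.IsPrime.mem_or_mem inferInstance h).elim hy hy', by ring⟩ }
    obtain ⟨m, y, hy, hyJ⟩ : ∃ (m : ℕ) (y : T), y ∉ Q ∧ ω w ^ m * y ∈ J := by
      by_contra! hcon
      obtain ⟨P, hP, hJP, hdisj⟩ := Ideal.exists_le_prime_disjoint J S
        (Set.disjoint_left.mpr fun x hxJ => by
          rintro ⟨m, y, hy, rfl⟩
          exact hcon m y hy hxJ)
      have hPQ : P ≤ Q := fun x hx => by
        by_contra hxQ
        exact Set.disjoint_left.mp hdisj hx ⟨0, x, hxQ, by simp⟩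
      exact Set.disjoint_left.mp hdisj (hQ.2 ⟨hP, hJP⟩ hPQ hw)
        ⟨1, 1, fun h => hQ.1.1.ne_top ((Ideal.eq_top_iff_one Q).mpr h), by simp⟩
    obtain ⟨k, s, hs⟩ := hgen y
    have hsum : ∑ j, ω (w ^ m * s j) * E j ∈ J := by
      have h1 : η ^ k * (ω w ^ m * y) - ω w ^ m * (η ^ k * y - ∑ j, ω (s j) * E j) ∈ J :=
        J.sub_mem (J.mul_mem_left _ hyJ) (J.mul_mem_left _ hs)
      convert h1 using 1
      simp only [map_mul, map_pow, mul_sub, Finset.mul_sum, mul_assoc]
      ring
    have hs0 : s = 0 := funext fun j =>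
      (mul_eq_zero.mp (congrFun (hind _ hsum) j)).resolve_left (pow_ne_zero m hw0)
    subst hs0
    simp only [Pi.zero_apply, map_zero, zero_mul, Finset.sum_const_zero, sub_zero] at hs
    exact (Ideal.IsPrime.mem_or_mem inferInstance (hQ.1.2 hs)).elim
      (fun h => hη (Ideal.IsPrime.mem_of_pow_mem inferInstance k h)) hy
  rw [Set.encard_le_coe_iff_finite_ncard_le]
  suffices hcard : ∀ s : Finset (Ideal T), (∀ Q ∈ s, Q ∈ J.minimalPrimes ∧ η ∉ Q) → s.card ≤ n by
    have hfin : {Q | Q ∈ J.minimalPrimes ∧ η ∉ Q}.Finite := by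
      by_contra hinf
      obtain ⟨s, hs, hs'⟩ := Set.Infinite.exists_subset_card_eq hinf (n + 1)
      have := hcard s fun Q hQ => hs hQ
      omega
    refine ⟨hfin, ?_⟩
    rw [Set.ncard_eq_toFinset_card _ hfin]
    exact hcard _ fun Q hQ => hfin.mem_toFinset.mp hQ
  intro s hs
  by_contra hn
  -- an element outside `Q` lying in all the others
  have hz : ∀ Q ∈ s, ∃ z, z ∉ Q ∧ ∀ Q' ∈ s, Q' ≠ Q → z ∈ Q' := by
    intro Q hQ
    haveI := (hs Q hQ).1.1.1
    have hch : ∀ Q' : Ideal T, ∃ z, z ∉ Q ∧ (Q' ∈ s → Q' ≠ Q → z ∈ Q') := by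
      intro Q'
      by_cases h : Q' ∈ s ∧ Q' ≠ Q
      · have hle : ¬ Q' ≤ Q := fun hle =>
          h.2 (le_antisymm hle ((hs Q hQ).1.2 ⟨(hs Q' h.1).1.1.1, (hs Q' h.1).1.1.2⟩ hle))
        obtain ⟨z, hz', hz⟩ := SetLike.not_le_iff_exists.mp hle
        exact ⟨z, hz, fun _ _ => hz'⟩
      · exact ⟨1, fun h' => (hs Q hQ).1.1.1.ne_top ((Ideal.eq_top_iff_one Q).mpr h'),
          fun h1 h2 => absurd ⟨h1, h2⟩ h⟩
    choose z hz hz' using hch
    refine ⟨∏ Q' ∈ s, z Q', fun h => ?_, fun Q' hQ' hne => ?_⟩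
    · obtain ⟨Q', -, h'⟩ := Ideal.IsPrime.prod_mem_iff.mp h
      exact hz Q' h'
    · exact Ideal.mem_of_dvd _ (Finset.dvd_prod_of_mem z hQ') (hz' Q' hQ' hne)
  choose z hzQ hz using fun Q : s => hz Q.1 Q.2
  choose k c hc using fun Q : s => hgen (z Q)
  have hdep : ¬ LinearIndependent W c := fun h => by
    have := h.fintype_card_le_finrank
    simp at this
    omega
  obtain ⟨g, hg, Q₀, hQ₀⟩ := Fintype.not_linearIndependent_iff.mp hdep
  haveI := (hs Q₀ Q₀.2).1.1.1
  have hmem : ∑ Q : s, ω (g Q) * (η ^ k Q * z Q) ∈ J := by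
    have h1 : ∑ Q : s, ω (g Q) * (η ^ k Q * z Q - ∑ j, ω (c Q j) * E j) ∈ J :=
      J.sum_mem fun Q _ => J.mul_mem_left _ (hc Q)
    have h2 : ∑ Q : s, ω (g Q) * (∑ j, ω (c Q j) * E j) = 0 := by
      simp only [Finset.mul_sum]
      rw [Finset.sum_comm]
      refine Finset.sum_eq_zero fun j _ => ?_
      have hj : ∑ Q : s, g Q * c Q j = 0 := by
        have := congrFun hg j
        simpa [Finset.sum_apply] using this
      simp only [← mul_assoc, ← map_mul, ← Finset.sum_mul, ← map_sum, hj, map_zero, zero_mul]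
    simpa only [mul_sub, Finset.sum_sub_distrib, h2, sub_zero] using h1
  have hother : ∑ Q ∈ Finset.univ.erase Q₀, ω (g Q) * (η ^ k Q * z Q) ∈ (Q₀ : Ideal T) :=
    Ideal.sum_mem _ fun Q hQ => Ideal.mul_mem_left _ _ (Ideal.mul_mem_left _ _
      (hz Q Q₀.1 Q₀.2 fun h => (Finset.mem_erase.mp hQ).1 (Subtype.ext h.symm)))
  have hQ0 : ω (g Q₀) * (η ^ k Q₀ * z Q₀) ∈ (Q₀ : Ideal T) := by
    have := (hs Q₀ Q₀.2).1.1.2 hmem
    rw [← Finset.add_sum_erase _ _ (Finset.mem_univ Q₀)] at this
    exact (Ideal.add_mem_iff_left _ hother).mp this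
  rcases Ideal.IsPrime.mem_or_mem inferInstance hQ0 with h | h
  · exact hQ₀ (hzero _ (hs Q₀ Q₀.2).1 (hs Q₀ Q₀.2).2 _ h)
  · rcases Ideal.IsPrime.mem_or_mem inferInstance h with h | h
    · exact (hs Q₀ Q₀.2).2 (Ideal.IsPrime.mem_of_pow_mem inferInstance _ h)
    · exact hzQ Q₀ h

set_option maxHeartbeats 1000000 in
/-- The geometric fibres over `Ω` of `V(P) \ V(b)` have at most `n` components, for suitable `b ∉ P`. -/
theorem exists_bound_prime {R B : Type u} [CommRing R] [CommRing B] [Algebra R B] [Algebra.FiniteType R B]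
    (P : Ideal B) [P.IsPrime] :
    ∃ (b : B) (n : ℕ), b ∉ P ∧ ∀ (Ω : Type u) [Field Ω] [Algebra R Ω],
      {Q : Ideal (Ω ⊗[R] B) | Q ∈ (P.map (Algebra.TensorProduct.includeRight :
          B →ₐ[R] Ω ⊗[R] B).toRingHom).minimalPrimes ∧
        (Algebra.TensorProduct.includeRight : B →ₐ[R] Ω ⊗[R] B) b ∉ Q}.encard ≤ n := by
  classical
  let p : Ideal R := P.comap (algebraMap R B)
  let π : B →+* B ⧸ P := Ideal.Quotient.mk P
  letI alg0 : Algebra (R ⧸ p) (B ⧸ P) :=
    (Ideal.quotientMap P (algebraMap R B) le_rfl).toAlgebra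
  haveI : IsScalarTower R (R ⧸ p) (B ⧸ P) := IsScalarTower.of_algebraMap_eq fun r => rfl
  haveI : FaithfulSMul (R ⧸ p) (B ⧸ P) :=
    (faithfulSMul_iff_algebraMap_injective _ _).mpr Ideal.quotientMap_injective
  haveI : Algebra.FiniteType R (B ⧸ P) :=
    Algebra.FiniteType.of_surjective (Ideal.Quotient.mkₐ R P) Ideal.Quotient.mk_surjective
  haveI : Algebra.FiniteType (R ⧸ p) (B ⧸ P) := Algebra.FiniteType.of_restrictScalars_finiteType R _ _
  obtain ⟨s, hs⟩ := Algebra.FiniteType.out (R := R ⧸ p) (A := B ⧸ P)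
  haveI : Algebra.IsAlgebraic (Algebra.adjoin (R ⧸ p) (↑s : Set (B ⧸ P))) (B ⧸ P) :=
    ⟨fun z => isAlgebraic_algebraMap
      (⟨z, hs.symm ▸ Algebra.mem_top⟩ : Algebra.adjoin (R ⧸ p) (↑s : Set (B ⧸ P)))⟩
  obtain ⟨t, hts, ht⟩ := exists_isTranscendenceBasis_subset (R := R ⧸ p) (↑s : Set (B ⧸ P))
  haveI : Finite t := (s.finite_toSet.subset hts).to_subtype
  haveI := ht.isAlgebraic
  let A := MvPolynomial t (R ⧸ p)
  letI algA : Algebra A (B ⧸ P) := (MvPolynomial.aeval ((↑) : t → B ⧸ P)).toRingHom.toAlgebra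
  have hinj : Function.Injective (algebraMap A (B ⧸ P)) := ht.1
  haveI : IsScalarTower (R ⧸ p) A (B ⧸ P) :=
    IsScalarTower.of_algebraMap_eq fun r => (MvPolynomial.aeval_C _ r).symm
  haveI : Algebra.FiniteType A (B ⧸ P) := Algebra.FiniteType.of_restrictScalars_finiteType (R ⧸ p) _ _
  haveI : Algebra.IsAlgebraic A (B ⧸ P) :=
    Algebra.IsAlgebraic.of_ringHom_of_comp_eq
      (S := Algebra.adjoin (R ⧸ p) (Set.range ((↑) : t → B ⧸ P))) (B := B ⧸ P)
      ht.1.aevalEquiv.toRingEquiv.toRingHom (RingHom.id _) ht.1.aevalEquiv.surjective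
      Function.injective_id (RingHom.ext fun x => ht.1.algebraMap_aevalEquiv x)
  obtain ⟨n, e, h, hh, hli, hspan⟩ := exists_frame A (B ⧸ P)
  choose ee hee using fun i => Ideal.Quotient.mk_surjective (I := P) (e i)
  choose xx hxx using fun i : t => Ideal.Quotient.mk_surjective (I := P) (i : B ⧸ P)
  obtain ⟨H, hH⟩ := MvPolynomial.map_surjective (σ := t) (Ideal.Quotient.mk p) Ideal.Quotient.mk_surjective h
  have hπ : ∀ F : MvPolynomial t R, π (MvPolynomial.aeval xx F) =
      algebraMap A (B ⧸ P) (MvPolynomial.map (Ideal.Quotient.mk p) F) := fun F => by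
    have : π.comp (MvPolynomial.aeval xx).toRingHom =
        (algebraMap A (B ⧸ P)).comp (MvPolynomial.map (Ideal.Quotient.mk p)) := by
      refine MvPolynomial.ringHom_ext (fun r => ?_) fun i => ?_
      · show π (MvPolynomial.aeval xx (MvPolynomial.C r)) =
          MvPolynomial.aeval ((↑) : t → B ⧸ P) (MvPolynomial.map (Ideal.Quotient.mk p) (MvPolynomial.C r))
        rw [MvPolynomial.aeval_C, MvPolynomial.map_C, MvPolynomial.aeval_C]
        rfl
      · show π (MvPolynomial.aeval xx (MvPolynomial.X i)) =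
          MvPolynomial.aeval ((↑) : t → B ⧸ P) (MvPolynomial.map (Ideal.Quotient.mk p) (MvPolynomial.X i))
        rw [MvPolynomial.aeval_X, MvPolynomial.map_X, MvPolynomial.aeval_X]
        exact hxx i
    exact RingHom.congr_fun this F
  refine ⟨MvPolynomial.aeval xx H, n, fun hb => hh (hinj ?_), fun Ω _ _ => ?_⟩
  · rw [map_zero, ← hH, ← hπ]
    exact Ideal.Quotient.eq_zero_iff_mem.mpr hb
  let inr : B →ₐ[R] Ω ⊗[R] B := Algebra.TensorProduct.includeRight
  let J : Ideal (Ω ⊗[R] B) := P.map inr.toRingHom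
  let ω : MvPolynomial t Ω →ₐ[Ω] Ω ⊗[R] B := MvPolynomial.aeval fun i => inr (xx i)
  have hω : ∀ F : MvPolynomial t R, inr (MvPolynomial.aeval xx F) =
      ω (MvPolynomial.map (algebraMap R Ω) F) := fun F => by
    show inr (MvPolynomial.aeval xx F) =
      MvPolynomial.aeval (fun i => inr (xx i)) (MvPolynomial.map (algebraMap R Ω) F)
    rw [MvPolynomial.aeval_map_algebraMap, ← AlgHom.comp_apply, MvPolynomial.comp_aeval]
  by_cases hp : ∃ r ∈ p, algebraMap R Ω r ≠ 0
  · -- the fibre is empty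
    obtain ⟨r, hr, hr0⟩ := hp
    have hJ : J = ⊤ := by
      refine Ideal.eq_top_of_isUnit_mem _ (Ideal.mem_map_of_mem inr.toRingHom hr) ?_
      show IsUnit (inr (algebraMap R B r))
      rw [inr.commutes, IsScalarTower.algebraMap_apply R Ω (Ω ⊗[R] B)]
      exact (isUnit_iff_ne_zero.mpr hr0).map (algebraMap Ω (Ω ⊗[R] B))
    have hempty : {Q : Ideal (Ω ⊗[R] B) | Q ∈ J.minimalPrimes ∧ inr (MvPolynomial.aeval xx H) ∉ Q} = ∅ :=
      Set.eq_empty_of_forall_notMem fun Q hQ => hQ.1.1.1.ne_top (top_le_iff.mp (hJ ▸ hQ.1.1.2))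
    exact (congrArg Set.encard hempty).le.trans (by simp)
  push Not at hp
  by_cases hμ : MvPolynomial.map (algebraMap R Ω) H = 0
  · have hempty : {Q : Ideal (Ω ⊗[R] B) | Q ∈ J.minimalPrimes ∧ inr (MvPolynomial.aeval xx H) ∉ Q} = ∅ :=
      Set.eq_empty_of_forall_notMem fun Q hQ => hQ.2 (by rw [hω, hμ, map_zero]; exact Q.zero_mem)
    exact (congrArg Set.encard hempty).le.trans (by simp)
  -- coordinates
  let φ : R ⧸ p →+* Ω := Ideal.Quotient.lift p (algebraMap R Ω) hp
  let G := FractionRing (MvPolynomial t Ω)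
  let χ : A →+* G := (algebraMap (MvPolynomial t Ω) G).comp (MvPolynomial.map φ)
  have hmapφ : ∀ F : MvPolynomial t R, MvPolynomial.map φ (MvPolynomial.map (Ideal.Quotient.mk p) F) =
      MvPolynomial.map (algebraMap R Ω) F := fun F => by
    rw [MvPolynomial.map_map]
    rfl
  have hχh : χ h ≠ 0 := by
    show algebraMap (MvPolynomial t Ω) G (MvPolynomial.map φ h) ≠ 0
    rw [← hH, hmapφ, Ne, IsFractionRing.injective (MvPolynomial t Ω) G |>.eq_iff' (map_zero _)]
    exact hμ
  obtain ⟨c, hcs, hce⟩ := exists_coord e h hli hspan χ hχh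
  let θ : Ω →+* G := (algebraMap (MvPolynomial t Ω) G).comp MvPolynomial.C
  have hCr : ∀ (r : R) (z : B), c (π (r • z)) = θ (algebraMap R Ω r) • c (π z) := fun r z => by
    have e1 : π (r • z) = algebraMap A (B ⧸ P) (MvPolynomial.map (Ideal.Quotient.mk p) (MvPolynomial.C r)) * π z := by
      rw [Algebra.smul_def, map_mul, ← hπ, MvPolynomial.aeval_C]
    rw [e1, ← Algebra.smul_def, hcs]
    show algebraMap (MvPolynomial t Ω) G (MvPolynomial.map φ _) • c (π z) = _
    rw [hmapφ, MvPolynomial.map_C]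
    rfl
  let β : Ω →+ B →+ (Fin n → G) :=
    { toFun := fun a =>
        { toFun := fun z => θ a • c (π z)
          map_zero' := by rw [map_zero π, map_zero c, smul_zero]
          map_add' := fun z w => by rw [map_add π, map_add c, smul_add] }
      map_zero' := by ext z; simp
      map_add' := fun a a' => by ext z; simp [add_smul] }
  let Φ : Ω ⊗[R] B →+ (Fin n → G) := TensorProduct.liftAddHom β fun r a z => by
    show θ (r • a) • c (π z) = θ a • c (π (r • z))
    rw [hCr, smul_smul, Algebra.smul_def r a, map_mul θ, mul_comm (θ a)]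
  have hΦ : ∀ (a : Ω) (z : B), Φ (a ⊗ₜ[R] z) = θ a • c (π z) := fun a z => rfl
  have hΦX : ∀ (i : t) (x : Ω ⊗[R] B), Φ (inr (xx i) * x) =
      algebraMap (MvPolynomial t Ω) G (MvPolynomial.X i) • Φ x := by
    intro i x
    induction x using TensorProduct.induction_on with
    | zero => simp
    | add x y hx hy => rw [mul_add, map_add, hx, hy, map_add, smul_add]
    | tmul a z =>
      show Φ ((1 : Ω) ⊗ₜ[R] xx i * a ⊗ₜ[R] z) = _
      rw [Algebra.TensorProduct.tmul_mul_tmul, one_mul, hΦ, hΦ, smul_smul]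
      have e1 : π (xx i * z) = algebraMap A (B ⧸ P) (MvPolynomial.X i) * π z := by
        rw [map_mul]
        exact congrArg (· * π z) ((hxx i).trans (MvPolynomial.aeval_X _ i).symm)
      rw [e1, ← Algebra.smul_def, hcs, smul_smul, mul_comm (θ a)]
      show (algebraMap (MvPolynomial t Ω) G (MvPolynomial.map φ (MvPolynomial.X i)) * θ a) • _ = _
      rw [MvPolynomial.map_X]
  have hΦω : ∀ (w : MvPolynomial t Ω) (x : Ω ⊗[R] B),
      Φ (ω w * x) = algebraMap (MvPolynomial t Ω) G w • Φ x := by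
    intro w
    induction w using MvPolynomial.induction_on with
    | C a =>
      intro x
      show Φ (MvPolynomial.aeval (fun i => inr (xx i)) (MvPolynomial.C a) * x) = θ a • Φ x
      rw [MvPolynomial.aeval_C, Algebra.TensorProduct.algebraMap_apply, Algebra.algebraMap_self,
        RingHom.id_apply]
      induction x using TensorProduct.induction_on with
      | zero => simp
      | add x y hx hy => rw [mul_add, map_add, hx, hy, map_add, smul_add]
      | tmul a' z =>
        rw [Algebra.TensorProduct.tmul_mul_tmul, one_mul, hΦ, hΦ, smul_smul, map_mul]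
    | add p q hp hq => intro x; rw [map_add, add_mul, map_add, hp, hq, map_add, add_smul]
    | mul_X p i hp =>
      intro x
      rw [map_mul ω, mul_assoc, hp, show ω (MvPolynomial.X i) = inr (xx i) from MvPolynomial.aeval_X _ i,
        hΦX, smul_smul, map_mul]
  have hΦJ : ∀ j ∈ J, Φ j = 0 := by
    suffices ∀ j ∈ J, ∀ x, Φ (x * j) = 0 from fun j hj => by simpa using this j hj 1
    intro j hj
    induction hj using Submodule.span_induction with
    | mem j hj =>
      obtain ⟨q, hq, rfl⟩ := hj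
      intro x
      induction x using TensorProduct.induction_on with
      | zero => simp
      | add x y hx hy => rw [add_mul, map_add, hx, hy, add_zero]
      | tmul a z =>
        show Φ (a ⊗ₜ[R] z * (1 : Ω) ⊗ₜ[R] q) = 0
        rw [Algebra.TensorProduct.tmul_mul_tmul, hΦ,
          show π (z * q) = 0 from Ideal.Quotient.eq_zero_iff_mem.mpr (P.mul_mem_left z hq),
          map_zero c, smul_zero]
    | zero => intro x; simp
    | add a b _ _ ha hb => intro x; rw [mul_add, map_add, ha, hb, add_zero]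
    | smul a j _ ih => intro x; rw [smul_eq_mul, ← mul_assoc]; exact ih _
  have hgen : ∀ x : Ω ⊗[R] B, ∃ (k : ℕ) (s : Fin n → MvPolynomial t Ω),
      inr (MvPolynomial.aeval xx H) ^ k * x - ∑ j, ω (s j) * inr (ee j) ∈ J := by
    intro x
    induction x using TensorProduct.induction_on with
    | zero => exact ⟨0, 0, by simp⟩
    | add x y hx hy =>
      obtain ⟨k, s, hs⟩ := hx
      obtain ⟨l, r, hr⟩ := hy
      let μ := MvPolynomial.map (algebraMap R Ω) H
      refine ⟨k + l, fun j => μ ^ l * s j + μ ^ k * r j, ?_⟩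
      have := J.add_mem (J.mul_mem_left (ω μ ^ l) hs) (J.mul_mem_left (ω μ ^ k) hr)
      convert this using 1
      simp only [map_add, map_mul, map_pow, hω, add_mul, Finset.sum_add_distrib, mul_sub, mul_assoc,
        ← Finset.mul_sum]
      ring
    | tmul a z =>
      obtain ⟨k, hk⟩ := hspan (π z)
      obtain ⟨q, hq⟩ := (Submodule.mem_span_range_iff_exists_fun A).mp hk
      choose Q hQ using fun j => MvPolynomial.map_surjective (σ := t) (Ideal.Quotient.mk p)
        Ideal.Quotient.mk_surjective (q j)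
      refine ⟨k, fun j => MvPolynomial.C a * MvPolynomial.map (algebraMap R Ω) (Q j), ?_⟩
      have hmem : MvPolynomial.aeval xx H ^ k * z - ∑ j, MvPolynomial.aeval xx (Q j) * ee j ∈ P := by
        rw [← Ideal.Quotient.eq_zero_iff_mem]
        simp only [map_sub, map_mul, map_pow, map_sum]
        rw [show Ideal.Quotient.mk P = π from rfl] at *
        simp only [hπ, hee, hQ, hH, ← map_pow, ← Algebra.smul_def, hq, sub_self]
      have := J.mul_mem_left (a ⊗ₜ[R] 1) (Ideal.mem_map_of_mem inr.toRingHom hmem)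
      convert this using 1
      have ha : ω (MvPolynomial.C a) = a ⊗ₜ[R] (1 : B) := by
        show MvPolynomial.aeval (fun i => inr (xx i)) (MvPolynomial.C a) = _
        rw [MvPolynomial.aeval_C]
        rfl
      have ht : a ⊗ₜ[R] z = a ⊗ₜ[R] (1 : B) * inr z := by
        show _ = a ⊗ₜ[R] (1 : B) * (1 : Ω) ⊗ₜ[R] z
        rw [Algebra.TensorProduct.tmul_mul_tmul, mul_one, one_mul]
      show _ = a ⊗ₜ[R] (1 : B) * inr _
      simp only [map_sub, map_mul, map_pow, map_sum, hω, ha, ht, mul_sub, Finset.mul_sum, mul_assoc]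
      ring
  refine encard_minimalPrimes_le_of_frame ω.toRingHom J (fun j => inr (ee j)) _ hgen fun s hs => ?_
  funext j
  have h0 : ∑ i, Φ (ω (s i) * inr (ee i)) = 0 := (map_sum Φ _ _).symm.trans (hΦJ _ hs)
  have hE : ∀ i, Φ (inr (ee i)) = Pi.single i 1 := fun i => by
    show Φ ((1 : Ω) ⊗ₜ[R] ee i) = _
    rw [hΦ, map_one θ, one_smul, show π (ee i) = e i from hee i, hce]
  simp only [hΦω, hE] at h0
  have hj := congrFun h0 j
  simp [Finset.sum_apply, Pi.single_apply] at hj
  exact IsFractionRing.injective (MvPolynomial t Ω) G (by simpa using hj)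

/-- Noetherian induction on closed subsets. -/
theorem exists_bound_ideal {R B : Type u} [CommRing R] [CommRing B] [Algebra R B] [Algebra.FiniteType R B]
    [IsNoetherianRing B] (I : Ideal B) :
    ∃ N : ℕ, ∀ (Ω : Type u) [Field Ω] [Algebra R Ω],
      ((I.map (Algebra.TensorProduct.includeRight : B →ₐ[R] Ω ⊗[R] B).toRingHom).minimalPrimes).encard ≤ N := by
  classical
  induction I using (wellFounded_gt (α := Ideal B)).induction with
  | h I ih =>
    rcases eq_or_ne I ⊤ with rfl | hne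
    · refine ⟨0, fun Ω _ _ => ?_⟩
      rw [Ideal.map_top, Set.encard_eq_zero.mpr]
      · simp
      exact Set.eq_empty_of_forall_notMem fun Q hQ => hQ.1.1.ne_top (top_le_iff.mp hQ.1.2)
    by_cases hI : I.IsPrime
    · obtain ⟨b, n, hb, hn⟩ := exists_bound_prime (R := R) I
      obtain ⟨N, hN⟩ := ih (I ⊔ Ideal.span {b}) (lt_of_le_of_ne le_sup_left fun h => hb
        (h ▸ Ideal.mem_sup_right (Ideal.mem_span_singleton_self b)))
      refine ⟨n + N, fun Ω _ _ => ?_⟩
      let inr : B →ₐ[R] Ω ⊗[R] B := Algebra.TensorProduct.includeRight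
      refine (Set.encard_le_encard (t := {Q | Q ∈ (I.map inr.toRingHom).minimalPrimes ∧ inr b ∉ Q} ∪
        ((I ⊔ Ideal.span {b}).map inr.toRingHom).minimalPrimes) fun Q hQ => ?_).trans
          ((Set.encard_union_le _ _).trans ?_)
      · by_cases hbQ : inr b ∈ Q
        · refine Or.inr ⟨⟨hQ.1.1, ?_⟩, fun Q' hQ' hle => hQ.2 ⟨hQ'.1, (Ideal.map_mono le_sup_left).trans hQ'.2⟩ hle⟩
          rw [Ideal.map_sup, sup_le_iff, Ideal.map_span, Set.image_singleton, Ideal.span_le,
            Set.singleton_subset_iff]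
          exact ⟨hQ.1.2, hbQ⟩
        · exact Or.inl ⟨hQ, hbQ⟩
      · push_cast
        exact add_le_add (hn Ω) (hN Ω)
    · have hfin := Ideal.finite_minimalPrimes_of_isNoetherianRing B I
      have hlt : ∀ P ∈ I.minimalPrimes, I < P := fun P hP =>
        lt_of_le_of_ne hP.1.2 fun h => hI (h ▸ hP.1.1)
      choose! N hN using fun P hP => ih P (hlt P hP)
      refine ⟨∑ P ∈ hfin.toFinset, N P, fun Ω _ _ => ?_⟩
      let inr : B →ₐ[R] Ω ⊗[R] B := Algebra.TensorProduct.includeRight
      refine (Set.encard_le_encard (t := ⋃ P ∈ hfin.toFinset, (P.map inr.toRingHom).minimalPrimes)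
        fun Q hQ => ?_).trans ((Finset.set_encard_biUnion_le _ _).trans ?_)
      · haveI := hQ.1.1
        obtain ⟨P, hP, hPQ⟩ := Ideal.exists_minimalPrimes_le (J := Q.comap inr.toRingHom)
          (Ideal.map_le_iff_le_comap.mp hQ.1.2)
        exact Set.mem_iUnion₂.mpr ⟨P, hfin.mem_toFinset.mpr hP, ⟨hQ.1.1, Ideal.map_le_iff_le_comap.mpr hPQ⟩,
          fun Q' hQ' hle => hQ.2 ⟨hQ'.1, (Ideal.map_mono hP.1.2).trans hQ'.2⟩ hle⟩
      · push_cast
        exact Finset.sum_le_sum fun P hP => hN P (hfin.mem_toFinset.mp hP) Ω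

/-- The geometric fibres of a finitely presented algebra have boundedly many components. -/
theorem exists_bound_minimalPrimes (R S : Type u) [CommRing R] [CommRing S] [Algebra R S]
    [Algebra.FinitePresentation R S] :
    ∃ N : ℕ, ∀ (Ω : Type u) [Field Ω] [Algebra R Ω], (minimalPrimes (Ω ⊗[R] S)).encard ≤ N := by
  let P := Algebra.Presentation.ofFinitePresentation R S
  haveI : Algebra.FiniteType ℤ P.Core := inferInstance
  haveI : IsNoetherianRing P.Core := Algebra.FiniteType.isNoetherianRing ℤ P.Core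
  haveI : IsNoetherianRing (P.ModelOfHasCoeffs P.Core) :=
    Algebra.FiniteType.isNoetherianRing P.Core _
  obtain ⟨N, hN⟩ := exists_bound_ideal (R := P.Core) (B := P.ModelOfHasCoeffs P.Core) ⊥
  refine ⟨N, fun Ω _ _ => ?_⟩
  letI algΩ : Algebra P.Core Ω := ((algebraMap R Ω).comp (algebraMap P.Core R)).toAlgebra
  haveI : IsScalarTower P.Core R Ω := IsScalarTower.of_algebraMap_eq fun _ => rfl
  let e : Ω ⊗[R] S ≃ₐ[Ω] Ω ⊗[P.Core] P.ModelOfHasCoeffs P.Core :=
    (Algebra.TensorProduct.congr AlgEquiv.refl (P.tensorModelOfHasCoeffsEquiv P.Core).symm).trans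
      (Algebra.TensorProduct.cancelBaseChange P.Core R Ω Ω _)
  have h := hN Ω
  rw [Ideal.map_bot] at h
  refine le_trans (le_of_eq ?_) h
  let f : (Ω ⊗[R] S) →+* (Ω ⊗[P.Core] P.ModelOfHasCoeffs P.Core) := e.toAlgHom.toRingHom
  have hsurj : Function.Surjective f := e.surjective
  have := @Ideal.comap_minimalPrimes_eq_of_surjective (Ω ⊗[R] S) (Ω ⊗[P.Core] P.ModelOfHasCoeffs P.Core)
    _ _ f hsurj ⊥
  rw [Ideal.comap_bot_of_injective f e.injective] at this
  show (⊥ : Ideal (Ω ⊗[R] S)).minimalPrimes.encard = _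
  rw [this]
  exact (Ideal.comap_injective_of_surjective _ hsurj).encard_image _

/-- The geometric fibres of an algebra generated by `m` elements have dimension `≤ m`. -/
theorem exists_bound_ringKrullDim (R S : Type u) [CommRing R] [CommRing S] [Algebra R S]
    [Algebra.FiniteType R S] :
    ∃ m : ℕ, ∀ (Ω : Type u) [Field Ω] [Algebra R Ω], ringKrullDim (Ω ⊗[R] S) ≤ (m : WithBot ℕ∞) := by
  obtain ⟨m, f, hf⟩ := Algebra.FiniteType.iff_quotient_mvPolynomial''.mp (inferInstance : Algebra.FiniteType R S)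
  refine ⟨m, fun Ω _ _ => ?_⟩
  let g : MvPolynomial (Fin m) Ω →ₐ[Ω] Ω ⊗[R] S :=
    MvPolynomial.aeval fun i => (1 : Ω) ⊗ₜ[R] f (MvPolynomial.X i)
  have hg : Function.Surjective g := by
    intro x
    induction x using TensorProduct.induction_on with
    | zero => exact ⟨0, map_zero g⟩
    | add x y hx hy =>
      obtain ⟨a, ha⟩ := hx
      obtain ⟨b, hb⟩ := hy
      exact ⟨a + b, by rw [map_add, ha, hb]⟩
    | tmul a z =>
      obtain ⟨F, rfl⟩ := hf z
      refine ⟨MvPolynomial.C a * MvPolynomial.map (algebraMap R Ω) F, ?_⟩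
      show MvPolynomial.aeval _ _ = _
      have hF : MvPolynomial.aeval (fun i => (1 : Ω) ⊗ₜ[R] f (MvPolynomial.X i)) F = (1 : Ω) ⊗ₜ[R] f F := by
        show _ = (Algebra.TensorProduct.includeRight : S →ₐ[R] Ω ⊗[R] S) (f F)
        rw [← AlgHom.comp_apply]
        exact congrArg (fun h : MvPolynomial (Fin m) R →ₐ[R] Ω ⊗[R] S => h F)
          (MvPolynomial.algHom_ext fun i => by simp)
      rw [map_mul, MvPolynomial.aeval_C, MvPolynomial.aeval_map_algebraMap, hF,
        Algebra.TensorProduct.algebraMap_apply, Algebra.algebraMap_self, RingHom.id_apply,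
        Algebra.TensorProduct.tmul_mul_tmul, mul_one, one_mul]
  refine (ringKrullDim_le_of_surjective g.toRingHom hg).trans ?_
  rw [MvPolynomial.ringKrullDim_of_isNoetherianRing, ringKrullDim_eq_zero_of_field]
  simp

end GrothLib.GrpClass19
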