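import Groth.Agent.Lib.GrpClass19.Abstract
import Groth.Agent.Lib.GrpClass19.CompBound
import Groth.Agent.Lib.DiagGrp.Points
import Groth.Agent.Lib.Dim.Scheme
import Mathlib.AlgebraicGeometry.AlgClosed.Basic
import Mathlib.AlgebraicGeometry.Morphisms.FinitePresentation
import Mathlib.AlgebraicGeometry.Morphisms.QuasiCompact

/-!
# Rational points of group schemes over algebraically closed fields and bounds on geometric fibres
-/

universe u
set_option autoImplicit false
set_option linter.style.haveILetI false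
open CategoryTheory CategoryTheory.Limits AlgebraicGeometry MonoidalCategory CartesianMonoidalCategory MonObj GrpObj
open scoped commutatorElement TensorProduct

namespace GrothLib.GrpClass19

section Points

variable {K : Type u} [Field K] [IsAlgClosed K] {H : Over (Spec (CommRingCat.of K))}

/-- The underlying point of a rational point. -/
noncomputable def ptLoc (x : Over.mk (𝟙 (Spec (CommRingCat.of K))) ⟶ H) : H.left :=
  x.left.base (IsLocalRing.closedPoint K)

omit [IsAlgClosed K] in
theorem ptLoc_comp {H' : Over (Spec (CommRingCat.of K))} (x : Over.mk (𝟙 (Spec (CommRingCat.of K))) ⟶ H)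
    (φ : H ⟶ H') : ptLoc (x ≫ φ) = φ.left.base (ptLoc x) := rfl

theorem range_ptLoc [LocallyOfFiniteType H.hom] :
    Set.range (ptLoc (K := K) (H := H)) = closedPoints H.left := by
  ext z
  constructor
  · rintro ⟨x, rfl⟩
    exact ((pointEquivClosedPoint H.hom) ⟨x.left, Over.w x⟩).2
  · intro hz
    let s := (pointEquivClosedPoint H.hom).symm ⟨z, hz⟩
    exact ⟨Over.homMk s.1 s.2, congrArg Subtype.val ((pointEquivClosedPoint H.hom).apply_symm_apply ⟨z, hz⟩)⟩

theorem ptLoc_injective [LocallyOfFiniteType H.hom] : Function.Injective (ptLoc (K := K) (H := H)) := by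
  intro x y h
  refine Over.OverMorphism.ext ?_
  have := (pointEquivClosedPoint H.hom).injective (a₁ := ⟨x.left, Over.w x⟩) (a₂ := ⟨y.left, Over.w y⟩)
    (Subtype.ext h)
  exact congrArg Subtype.val this

/-- Bounds on the class and derived length of the group of rational points. -/
theorem bounds (H : Over (Spec (CommRingCat.of K))) [GrpObj H] [LocallyOfFiniteType H.hom] (N d : ℕ)
    (hN : (irreducibleComponents H.left).encard ≤ N) (hd : topologicalKrullDim H.left ≤ (d : WithBot ℕ∞)) :
    ((∃ m, (⊤ : Subgroup (Over.mk (𝟙 (Spec (CommRingCat.of K))) ⟶ H)).lowerCentralSeries m = ⊥) →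
      (⊤ : Subgroup (Over.mk (𝟙 (Spec (CommRingCat.of K))) ⟶ H)).lowerCentralSeries (N + d + 1) = ⊥) ∧
    ((∃ m, derivedSeries (Over.mk (𝟙 (Spec (CommRingCat.of K))) ⟶ H) m = ⊥) →
      derivedSeries (Over.mk (𝟙 (Spec (CommRingCat.of K))) ⟶ H) (N + d + 1) = ⊥) := by
  let P := Over.mk (𝟙 (Spec (CommRingCat.of K)))
  haveI : JacobsonSpace H.left := LocallyOfFiniteType.jacobsonSpace (Y := Spec _) H.hom
  letI top : TopologicalSpace (P ⟶ H) := TopologicalSpace.induced ptLoc inferInstance
  have hind : Topology.IsInducing (ptLoc (K := K) (H := H)) := ⟨rfl⟩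
  have hcont : ∀ (φ : H ⟶ H) (f : (P ⟶ H) → (P ⟶ H)), (∀ x, f x = x ≫ φ) → Continuous f := fun φ f hf => by
    rw [hind.continuous_iff]
    have : ptLoc ∘ f = φ.left.base ∘ ptLoc := funext fun x => by
      rw [Function.comp_apply, hf, ptLoc_comp]; rfl
    rw [this]
    exact φ.left.continuous.comp hind.continuous
  let cst : (P ⟶ H) → (H ⟶ H) := fun g => Over.homMk (H.hom ≫ g.left) (by
    rw [Category.assoc, Over.w g]; exact Category.comp_id _)
  have hcst : ∀ (g x : P ⟶ H), x ≫ cst g = g := fun g x => Over.OverMorphism.ext (by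
    show x.left ≫ H.hom ≫ g.left = g.left
    rw [Over.w_assoc x]
    exact Category.id_comp _)
  have hsc : SepCont (P ⟶ H) :=
    { inv := hcont ((𝟙 H)⁻¹) _ fun x => by rw [GrpObj.comp_inv, Category.comp_id]
      mul_left := fun g => hcont (cst g * 𝟙 H) _ fun x => by rw [MonObj.comp_mul, hcst, Category.comp_id]
      mul_right := fun g => hcont (𝟙 H * cst g) _ fun x => by rw [MonObj.comp_mul, hcst, Category.comp_id]
      comm := fun g => hcont (cst g * 𝟙 H * (cst g)⁻¹ * (𝟙 H)⁻¹) _ fun x => by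
        simp only [commutatorElement_def, MonObj.comp_mul, GrpObj.comp_inv, hcst, Category.comp_id]
      isClosed_one := by
        rw [← (ptLoc_injective (K := K) (H := H)).preimage_image ({1} : Set (P ⟶ H)), Set.image_singleton]
        refine IsClosed.preimage hind.continuous ?_
        have : ptLoc (1 : P ⟶ H) ∈ closedPoints H.left := (range_ptLoc (K := K) (H := H)) ▸ Set.mem_range_self _
        exact this }
  have hirr : ∀ Z : Set H.left, IsClosed Z → IsPreirreducible Z → IsPreirreducible (ptLoc (K := K) (H := H) ⁻¹' Z) := by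
    intro Z hZc hZ U V hU hV ⟨a, haZ, haU⟩ ⟨b, hbZ, hbV⟩
    obtain ⟨U', hU', rfl⟩ := hind.isOpen_iff.mp hU
    obtain ⟨V', hV', rfl⟩ := hind.isOpen_iff.mp hV
    obtain ⟨z, hz⟩ := hZ U' V' hU' hV' ⟨_, haZ, haU⟩ ⟨_, hbZ, hbV⟩
    obtain ⟨w, hw, hwc⟩ := nonempty_inter_closedPoints (Z := Z ∩ (U' ∩ V')) ⟨z, hz⟩
      (hZc.isLocallyClosed.inter (hU'.inter hV').isLocallyClosed)
    rw [← range_ptLoc] at hwc
    obtain ⟨x, rfl⟩ := hwc
    exact ⟨x, hw.1, hw.2⟩
  have hfinH : (irreducibleComponents H.left).Finite := Set.finite_of_encard_le_coe hN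
  have hsub : irreducibleComponents (P ⟶ H) ⊆
      (fun Z => ptLoc (K := K) (H := H) ⁻¹' Z) '' irreducibleComponents H.left := by
    intro W hW
    obtain ⟨Z, hZ, hWZ⟩ := isIrreducible_iff_sUnion_isClosed.mp hW.1
      (hfinH.toFinset.image fun Z => ptLoc (K := K) (H := H) ⁻¹' Z)
      (fun S hS => by
        obtain ⟨Z, hZ, rfl⟩ := Finset.mem_image.mp hS
        exact (isClosed_of_mem_irreducibleComponents Z (hfinH.mem_toFinset.mp hZ)).preimage hind.continuous)
      (fun x _ => by
        obtain ⟨Z, hZ, hxZ⟩ : ptLoc x ∈ ⋃₀ irreducibleComponents H.left := by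
          rw [sUnion_irreducibleComponents]; trivial
        exact ⟨_, Finset.mem_coe.mpr (Finset.mem_image.mpr ⟨Z, hfinH.mem_toFinset.mpr hZ, rfl⟩), hxZ⟩)
    obtain ⟨Z', hZ', rfl⟩ := Finset.mem_image.mp hZ
    have hZ'' := hfinH.mem_toFinset.mp hZ'
    exact ⟨Z', hZ'', le_antisymm (hW.2 ⟨hW.1.nonempty.mono hWZ,
      hirr Z' (isClosed_of_mem_irreducibleComponents Z' hZ'') hZ''.1.2⟩ hWZ) hWZ⟩
  have hfin : (irreducibleComponents (P ⟶ H)).Finite := (hfinH.image _).subset hsub
  have hcard : (irreducibleComponents (P ⟶ H)).ncard ≤ N := by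
    refine (Set.ncard_le_ncard hsub (hfinH.image _)).trans ((Set.ncard_image_le hfinH).trans ?_)
    have := hfinH.cast_ncard_eq
    exact_mod_cast this.le.trans hN
  have hdim : topologicalKrullDim (P ⟶ H) ≤ (d : WithBot ℕ∞) := hind.topologicalKrullDim_le.trans hd
  exact ⟨fun h => lowerCentralSeries_eq_bot hsc N d hfin hcard hdim h,
    fun h => derivedSeries_eq_bot hsc N d hfin hcard hdim h⟩

end Points

/-- Irreducible components are counted on a finite open cover. -/
theorem encard_irreducibleComponents_le {X : Type u} [TopologicalSpace X] {κ : Type u} [Fintype κ]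
    {Y : κ → Type u} [∀ i, TopologicalSpace (Y i)] (f : ∀ i, Y i → X) (hf : ∀ i, Topology.IsOpenEmbedding (f i))
    (hcov : ∀ x, ∃ i, x ∈ Set.range (f i)) (N : κ → ℕ) (hN : ∀ i, (irreducibleComponents (Y i)).encard ≤ N i) :
    (irreducibleComponents X).encard ≤ (∑ i, N i : ℕ) := by
  classical
  refine (Set.encard_le_encard (t := ⋃ i ∈ (Finset.univ : Finset κ),
    (fun W => closure (f i '' W)) '' irreducibleComponents (Y i)) fun Z hZ => ?_).trans ?_
  · obtain ⟨x, hx⟩ := hZ.1.nonempty
    obtain ⟨i, y, rfl⟩ := hcov x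
    refine Set.mem_iUnion₂.mpr ⟨i, Finset.mem_univ i, f i ⁻¹' Z, ?_, ?_⟩
    · exact preimage_mem_irreducibleComponents hZ (hf i) ⟨f i y, hx, y, rfl⟩
    · have hclosed := isClosed_of_mem_irreducibleComponents Z hZ
      refine le_antisymm (closure_minimal (Set.image_preimage_subset _ _) hclosed) ?_
      show Z ⊆ closure (f i '' (f i ⁻¹' Z))
      rw [Set.image_preimage_eq_inter_range]
      exact subset_closure_inter_of_isPreirreducible_of_isOpen hZ.1.2 (hf i).isOpen_range ⟨f i y, hx, y, rfl⟩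
  · refine (Finset.set_encard_biUnion_le _ _).trans ?_
    push_cast
    exact Finset.sum_le_sum fun i _ => (Set.encard_image_le _ _).trans (hN i)

/-- Over an affine open of the base, the geometric fibres of a quasi-compact morphism locally of finite
presentation have boundedly many components and bounded dimension. -/
theorem exists_bound_fibres {S G : Scheme.{u}} (f : G ⟶ S) [QuasiCompact f] [LocallyOfFinitePresentation f]
    {U : S.Opens} (hU : IsAffineOpen U) :
    ∃ N d : ℕ, ∀ (Ω : Type u) [Field Ω] (q : Spec (CommRingCat.of Ω) ⟶ S), Set.range q.base ⊆ (U : Set S) →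
      (irreducibleComponents ↥(pullback f q)).encard ≤ N ∧
        topologicalKrullDim ↥(pullback f q) ≤ (d : WithBot ℕ∞) := by
  classical
  obtain ⟨s, hs, hcov⟩ := isCompact_iff_finite_and_eq_biUnion_affineOpens.mp
    (f.isCompact_preimage hU.isCompact)
  haveI := hs.fintype
  have hle : ∀ V : s, (V : G.affineOpens).1 ≤ f ⁻¹ᵁ U := fun V =>
    (le_biSup (fun W : G.affineOpens => W.1) V.2).trans_eq hcov.symm
  letI alg : ∀ V : s, Algebra Γ(S, U) Γ(G, (V : G.affineOpens).1) := fun V =>
    (f.appLE U _ (hle V)).hom.toAlgebra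
  haveI : ∀ V : s, Algebra.FinitePresentation Γ(S, U) Γ(G, (V : G.affineOpens).1) := fun V =>
    f.finitePresentation_appLE hU (V : G.affineOpens).2 (hle V)
  choose N hN using fun V : s => exists_bound_minimalPrimes Γ(S, U) Γ(G, (V : G.affineOpens).1)
  choose d hd using fun V : s => exists_bound_ringKrullDim Γ(S, U) Γ(G, (V : G.affineOpens).1)
  refine ⟨∑ V : s, N V, Finset.univ.sup d, fun Ω _ q hq => ?_⟩
  let q' : Spec (CommRingCat.of Ω) ⟶ Spec Γ(S, U) :=
    IsOpenImmersion.lift hU.fromSpec q (by rw [hU.range_fromSpec]; exact hq)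
  have hq' : q' ≫ hU.fromSpec = q := IsOpenImmersion.lift_fac _ _ _
  letI algΩ : Algebra Γ(S, U) Ω := (Spec.preimage q').hom.toAlgebra
  have hqa : Spec.map (CommRingCat.ofHom (algebraMap Γ(S, U) Ω)) ≫ hU.fromSpec = q := by
    have : CommRingCat.ofHom (algebraMap Γ(S, U) Ω) = Spec.preimage q' := rfl
    rw [this, Spec.map_preimage, hq']
  have hloc : ∀ V : s, Spec.map (CommRingCat.ofHom (algebraMap Γ(S, U) Γ(G, (V : G.affineOpens).1))) ≫ hU.fromSpec =
      (V : G.affineOpens).2.fromSpec ≫ f := fun V =>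
    IsAffineOpen.SpecMap_appLE_fromSpec f hU (V : G.affineOpens).2 (hle V)
  let M : ∀ V : s, pullback (Spec.map (CommRingCat.ofHom (algebraMap Γ(S, U) Γ(G, (V : G.affineOpens).1))))
      (Spec.map (CommRingCat.ofHom (algebraMap Γ(S, U) Ω))) ⟶ pullback f q := fun V =>
    pullback.map _ _ f q (V : G.affineOpens).2.fromSpec (𝟙 _) hU.fromSpec (hloc V) (by rw [hqa, Category.id_comp])
  have hM : ∀ V, IsOpenImmersion (M V) := fun V => by
    haveI : IsOpenImmersion (V : G.affineOpens).2.fromSpec := IsAffineOpen.isOpenImmersion_fromSpec _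
    haveI : Mono hU.fromSpec := inferInstance
    exact Scheme.pullback_map_isOpenImmersion _ _ _ _ _ _ _ _ _
  let j : ∀ V : s, Spec (CommRingCat.of (Γ(G, (V : G.affineOpens).1) ⊗[Γ(S, U)] Ω)) ⟶ pullback f q := fun V =>
    (pullbackSpecIso Γ(S, U) Γ(G, (V : G.affineOpens).1) Ω).inv ≫ M V
  have hopen : ∀ V, IsOpenImmersion (j V) := fun V => by haveI := hM V; exact IsOpenImmersion.comp _ _
  have hjcov : ∀ z : ↥(pullback f q), ∃ V, z ∈ Set.range (j V).base := by
    intro z
    have hz : (pullback.fst f q).base z ∈ f ⁻¹ᵁ U := by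
      show (pullback.fst f q ≫ f).base z ∈ (U : Set S)
      rw [pullback.condition, Scheme.Hom.comp_base]
      exact hq ⟨_, rfl⟩
    rw [hcov] at hz
    simp only [TopologicalSpace.Opens.mem_iSup] at hz
    obtain ⟨V', hVs, hzV⟩ := hz
    let V : s := ⟨V', hVs⟩
    refine ⟨V, ?_⟩
    have hmem : z ∈ Set.range (M V) := by
      dsimp only [M]
      rw [Scheme.Pullback.range_map]
      refine ⟨?_, ⟨(pullback.snd f q).base z, rfl⟩⟩
      show (pullback.fst f q).base z ∈ Set.range (V : G.affineOpens).2.fromSpec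
      exact (IsAffineOpen.range_fromSpec (U := (V : G.affineOpens).1) (V : G.affineOpens).2).symm ▸ hzV
    obtain ⟨w, hw⟩ := hmem
    refine ⟨(pullbackSpecIso Γ(S, U) Γ(G, (V : G.affineOpens).1) Ω).hom.base w, ?_⟩
    rw [← hw, ← Scheme.Hom.comp_apply]
    exact congrArg (fun m : _ ⟶ pullback f q => m w) (Iso.hom_inv_id_assoc _ (M V))
  constructor
  · refine encard_irreducibleComponents_le (fun V => (j V).base) (fun V => (j V).isOpenEmbedding) hjcov N fun V => ?_
    let B := Γ(G, (V : G.affineOpens).1)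
    let e : Ω ⊗[Γ(S, U)] B ≃+* B ⊗[Γ(S, U)] Ω := (Algebra.TensorProduct.comm Γ(S, U) Ω B).toRingEquiv
    have h1 : (irreducibleComponents (PrimeSpectrum (B ⊗[Γ(S, U)] Ω))).encard =
        (minimalPrimes (B ⊗[Γ(S, U)] Ω)).encard :=
      (Set.encard_congr (minimalPrimes.equivIrreducibleComponents (B ⊗[Γ(S, U)] Ω)).toEquiv).symm
    have h2 : (minimalPrimes (B ⊗[Γ(S, U)] Ω)).encard = (minimalPrimes (Ω ⊗[Γ(S, U)] B)).encard := by
      have hsurj : Function.Surjective e.toRingHom := e.surjective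
      have := @Ideal.comap_minimalPrimes_eq_of_surjective (Ω ⊗[Γ(S, U)] B) (B ⊗[Γ(S, U)] Ω) _ _
        e.toRingHom hsurj ⊥
      rw [Ideal.comap_bot_of_injective e.toRingHom e.injective] at this
      show (⊥ : Ideal (B ⊗[Γ(S, U)] Ω)).minimalPrimes.encard = (⊥ : Ideal (Ω ⊗[Γ(S, U)] B)).minimalPrimes.encard
      rw [this]
      exact ((Ideal.comap_injective_of_surjective _ hsurj).encard_image _).symm
    exact (h1.trans h2).le.trans (hN V Ω)
  · refine GrothLib.Dim.topologicalKrullDim_le_of_cover (fun V => (j V).opensRange) (fun z => hjcov z) fun V => ?_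
    show topologicalKrullDim ↥(Set.range (j V).base) ≤ _
    rw [← IsHomeomorph.topologicalKrullDim_eq _ (j V).isOpenEmbedding.isEmbedding.toHomeomorph.isHomeomorph]
    refine ((PrimeSpectrum.topologicalKrullDim_eq_ringKrullDim _).trans_le ?_)
    refine (ringKrullDim_eq_of_ringEquiv (Algebra.TensorProduct.comm Γ(S, U) Ω
      Γ(G, (V : G.affineOpens).1)).toRingEquiv).symm.trans_le ((hd V Ω).trans ?_)
    exact_mod_cast Finset.le_sup (Finset.mem_univ V)

end GrothLib.GrpClass19
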