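import Groth.Agent.Lib.GrpClass19.Geom
import Groth.Agent.S5366
import Groth.Agent.Lib.DiagGrp.KernelFP
import Groth.Agent.Lib.Constr.Basic
import Groth.Prelude.Def_AGF
import Mathlib.AlgebraicGeometry.Morphisms.Immersion

/-!
# The locus of fibres with trivial iterated commutators
-/

universe u
set_option autoImplicit false
set_option linter.style.haveILetI false
open CategoryTheory CategoryTheory.Limits AlgebraicGeometry MonoidalCategory CartesianMonoidalCategory MonObj GrpObj
open scoped commutatorElement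

namespace GrothLib.GrpClass19

theorem closure_comm {M : Type u} [Group M] (A B C : Set M) [(Subgroup.closure C).Normal]
    (h : ∀ a ∈ A, ∀ b ∈ B, ⁅a, b⁆ ∈ C) : ⁅Subgroup.closure A, Subgroup.closure B⁆ ≤ Subgroup.closure C := by
  rw [Subgroup.commutator_le]
  intro a ha b hb
  have hab : ∀ a ∈ A, ∀ b ∈ B, Commute (QuotientGroup.mk' (Subgroup.closure C) a)
      (QuotientGroup.mk' (Subgroup.closure C) b) := fun a ha b hb => by
    rw [← commutatorElement_eq_one_iff_commute, ← map_commutatorElement, QuotientGroup.mk'_apply,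
      QuotientGroup.eq_one_iff]
    exact Subgroup.subset_closure (h a ha b hb)
  have hc : Commute (QuotientGroup.mk' (Subgroup.closure C) a) (QuotientGroup.mk' (Subgroup.closure C) b) := by
    induction ha using Subgroup.closure_induction with
    | mem a ha =>
      induction hb using Subgroup.closure_induction with
      | mem b hb => exact hab a ha b hb
      | one => rw [map_one]; exact Commute.one_right _
      | mul x y _ _ hx hy => rw [map_mul]; exact hx.mul_right hy
      | inv x _ hx => rw [map_inv]; exact hx.inv_right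
    | one => rw [map_one]; exact Commute.one_left _
    | mul x y _ _ hx hy => rw [map_mul]; exact hx.mul_left hy
    | inv x _ hx => rw [map_inv]; exact hx.inv_left
  rwa [← commutatorElement_eq_one_iff_commute, ← map_commutatorElement, QuotientGroup.mk'_apply,
    QuotientGroup.eq_one_iff] at hc

theorem normal_of {M : Type u} [Group M] (C : Set M) (h : ∀ g : M, ∀ c ∈ C, g * c * g⁻¹ ∈ C) :
    (Subgroup.closure C).Normal := by
  refine ⟨fun x hx g => ?_⟩
  induction hx using Subgroup.closure_induction with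
  | mem c hc => exact Subgroup.subset_closure (h g c hc)
  | one => simp
  | mul x y _ _ hx hy =>
    rw [show g * (x * y) * g⁻¹ = (g * x * g⁻¹) * (g * y * g⁻¹) by simp [_root_.mul_assoc]]
    exact mul_mem hx hy
  | inv x _ hx =>
    rw [show g * x⁻¹ * g⁻¹ = (g * x * g⁻¹)⁻¹ by simp [_root_.mul_assoc]]
    exact inv_mem hx

theorem comm_conj {M : Type u} [Group M] (g a b : M) : g * ⁅a, b⁆ * g⁻¹ = ⁅g * a * g⁻¹, g * b * g⁻¹⁆ := by
  simp [commutatorElement_def, _root_.mul_assoc]

variable {S : Scheme.{u}}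

/-- The properties carried along by words. -/
def GoodObj (G P : Over S) : Prop :=
  LocallyOfFinitePresentation P.hom ∧ QuasiCompact P.hom ∧ QuasiSeparated P.hom ∧ (Smooth G.hom → Smooth P.hom)

theorem GoodObj.refl (G : Over S) [LocallyOfFinitePresentation G.hom] [QuasiCompact G.hom] [QuasiSeparated G.hom] :
    GoodObj G G := ⟨inferInstance, inferInstance, inferInstance, id⟩

theorem GoodObj.tensor {G P Q : Over S} (hP : GoodObj G P) (hQ : GoodObj G Q) : GoodObj G (P ⊗ Q) := by
  obtain ⟨h1, h2, h3, h4⟩ := hP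
  obtain ⟨k1, k2, k3, k4⟩ := hQ
  refine ⟨?_, ?_, ?_, fun h => ?_⟩
  · rw [Over.tensorObj_hom]; infer_instance
  · rw [Over.tensorObj_hom]; infer_instance
  · rw [Over.tensorObj_hom]; infer_instance
  · haveI := h4 h; haveI := k4 h
    rw [Over.tensorObj_hom]; infer_instance

variable (G : Over S) [GrpObj G] [LocallyOfFinitePresentation G.hom] [QuasiCompact G.hom] [QuasiSeparated G.hom]

theorem exists_derivedWord (n : ℕ) : ∃ (P : Over S) (w : P ⟶ G), GoodObj G P ∧
    ∀ T : Over S, derivedSeries (T ⟶ G) n = Subgroup.closure (Set.range fun x : T ⟶ P => x ≫ w) ∧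
      ∀ (g : T ⟶ G) (x : T ⟶ P), ∃ y : T ⟶ P, g * (x ≫ w) * g⁻¹ = y ≫ w := by
  induction n with
  | zero =>
    refine ⟨G, 𝟙 G, GoodObj.refl G, fun T => ⟨?_, fun g x => ⟨g * x * g⁻¹, by simp only [Category.comp_id]⟩⟩⟩
    simp
  | succ m ih =>
    obtain ⟨P, w, hP, h⟩ := ih
    refine ⟨P ⊗ P, ⁅fst P P ≫ w, snd P P ≫ w⁆, hP.tensor hP, fun T => ?_⟩
    have hval : ∀ x : T ⟶ P ⊗ P, x ≫ ⁅fst P P ≫ w, snd P P ≫ w⁆ = ⁅(x ≫ fst P P) ≫ w, (x ≫ snd P P) ≫ w⁆ := by
      intro x
      simp only [commutatorElement_def, MonObj.comp_mul, GrpObj.comp_inv, Category.assoc]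
    obtain ⟨hS, hconj⟩ := h T
    have hconj' : ∀ (g : T ⟶ G) (x : T ⟶ P ⊗ P), ∃ y : T ⟶ P ⊗ P,
        g * (x ≫ ⁅fst P P ≫ w, snd P P ≫ w⁆) * g⁻¹ = y ≫ ⁅fst P P ≫ w, snd P P ≫ w⁆ := by
      intro g x
      obtain ⟨y₁, h₁⟩ := hconj g (x ≫ fst P P)
      obtain ⟨y₂, h₂⟩ := hconj g (x ≫ snd P P)
      refine ⟨lift y₁ y₂, ?_⟩
      rw [hval, hval, comm_conj, h₁, h₂, lift_fst, lift_snd]
    refine ⟨le_antisymm ?_ ?_, hconj'⟩
    · rw [derivedSeries_succ, hS]
      haveI := normal_of (Set.range fun x : T ⟶ P ⊗ P => x ≫ ⁅fst P P ≫ w, snd P P ≫ w⁆) (by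
        rintro g _ ⟨x, rfl⟩
        obtain ⟨y, hy⟩ := hconj' g x
        exact ⟨y, hy.symm⟩)
      refine closure_comm _ _ _ ?_
      rintro _ ⟨x₁, rfl⟩ _ ⟨x₂, rfl⟩
      exact ⟨lift x₁ x₂, by simp only [hval, lift_fst, lift_snd]⟩
    · rw [Subgroup.closure_le]
      rintro _ ⟨x, rfl⟩
      simp only [hval, derivedSeries_succ, hS, SetLike.mem_coe]
      exact Subgroup.commutator_mem_commutator (Subgroup.subset_closure ⟨_, rfl⟩) (Subgroup.subset_closure ⟨_, rfl⟩)

theorem exists_lowerWord (n : ℕ) : ∃ (P : Over S) (w : P ⟶ G), GoodObj G P ∧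
    ∀ T : Over S, (⊤ : Subgroup (T ⟶ G)).lowerCentralSeries n = Subgroup.closure (Set.range fun x : T ⟶ P => x ≫ w) ∧
      ∀ (g : T ⟶ G) (x : T ⟶ P), ∃ y : T ⟶ P, g * (x ≫ w) * g⁻¹ = y ≫ w := by
  induction n with
  | zero =>
    refine ⟨G, 𝟙 G, GoodObj.refl G, fun T => ⟨?_, fun g x => ⟨g * x * g⁻¹, by simp only [Category.comp_id]⟩⟩⟩
    simp
  | succ m ih =>
    obtain ⟨P, w, hP, h⟩ := ih
    refine ⟨P ⊗ G, ⁅fst P G ≫ w, snd P G⁆, hP.tensor (GoodObj.refl G), fun T => ?_⟩
    have hval : ∀ x : T ⟶ P ⊗ G, x ≫ ⁅fst P G ≫ w, snd P G⁆ = ⁅(x ≫ fst P G) ≫ w, x ≫ snd P G⁆ := by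
      intro x
      simp only [commutatorElement_def, MonObj.comp_mul, GrpObj.comp_inv, Category.assoc]
    obtain ⟨hS, hconj⟩ := h T
    have hconj' : ∀ (g : T ⟶ G) (x : T ⟶ P ⊗ G), ∃ y : T ⟶ P ⊗ G,
        g * (x ≫ ⁅fst P G ≫ w, snd P G⁆) * g⁻¹ = y ≫ ⁅fst P G ≫ w, snd P G⁆ := by
      intro g x
      obtain ⟨y₁, h₁⟩ := hconj g (x ≫ fst P G)
      refine ⟨lift y₁ (g * (x ≫ snd P G) * g⁻¹), ?_⟩
      rw [hval, hval, comm_conj, h₁, lift_fst, lift_snd]
    refine ⟨le_antisymm ?_ ?_, hconj'⟩
    · rw [Subgroup.lowerCentralSeries_succ, hS, ← Subgroup.closure_univ (G := T ⟶ G)]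
      haveI := normal_of (Set.range fun x : T ⟶ P ⊗ G => x ≫ ⁅fst P G ≫ w, snd P G⁆) (by
        rintro g _ ⟨x, rfl⟩
        obtain ⟨y, hy⟩ := hconj' g x
        exact ⟨y, hy.symm⟩)
      refine closure_comm _ _ _ ?_
      rintro _ ⟨x₁, rfl⟩ b -
      exact ⟨lift x₁ b, by simp only [hval, lift_fst, lift_snd]⟩
    · rw [Subgroup.closure_le]
      rintro _ ⟨x, rfl⟩
      simp only [hval, Subgroup.lowerCentralSeries_succ, hS, SetLike.mem_coe]
      exact Subgroup.commutator_mem_commutator (Subgroup.subset_closure ⟨_, rfl⟩) (Subgroup.mem_top _)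

theorem closure_range_eq_bot_iff {T P : Over S} (w : P ⟶ G) :
    Subgroup.closure (Set.range fun x : T ⟶ P => x ≫ w) = ⊥ ↔ ∀ x : T ⟶ P, x ≫ w = 1 := by
  rw [Subgroup.closure_eq_bot_iff, Set.range_subset_iff]
  rfl

/-- A group isomorphism from an isomorphism of sources. -/
def congrSrc {T T' : Over S} (e : T ≅ T') : (T ⟶ G) ≃* (T' ⟶ G) where
  toFun x := e.inv ≫ x
  invFun x := e.hom ≫ x
  left_inv x := e.hom_inv_id_assoc x
  right_inv x := e.inv_hom_id_assoc x
  map_mul' a b := MonObj.comp_mul e.inv a b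

theorem lower_congr {A B : Type u} [Group A] [Group B] (e : A ≃* B) (n : ℕ) :
    (⊤ : Subgroup A).lowerCentralSeries n = ⊥ ↔ (⊤ : Subgroup B).lowerCentralSeries n = ⊥ := by
  suffices ∀ {A B : Type u} [Group A] [Group B] (e : A ≃* B),
      (⊤ : Subgroup A).lowerCentralSeries n = ⊥ → (⊤ : Subgroup B).lowerCentralSeries n = ⊥ from
    ⟨this e, this e.symm⟩
  intro A B _ _ e h
  rw [eq_bot_iff]
  intro b hb
  have : e.symm b ∈ (⊤ : Subgroup A).lowerCentralSeries n :=
    lowerCentralSeries.map e.symm.toMonoidHom n ⟨b, hb, rfl⟩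
  rw [h, Subgroup.mem_bot] at this
  exact Subgroup.mem_bot.mpr (e.symm.injective (by rw [this, map_one]))

theorem derived_congr {A B : Type u} [Group A] [Group B] (e : A ≃* B) (n : ℕ) :
    derivedSeries A n = ⊥ ↔ derivedSeries B n = ⊥ := by
  rw [← map_derivedSeries_eq (f := e.toMonoidHom) e.surjective n, Subgroup.map_eq_bot_iff_of_injective _ e.injective]

/-- Group-theoretic form of nilpotency and solvability of a geometric fibre. -/
theorem geomFibre_iff (s : S) [Smooth (Red.geomFibre s G).hom] [QuasiCompact (Red.geomFibre s G).hom] :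
    (AGF.IsNilpotentGrp (Red.geomFibre s G) ↔
      ∃ n, (⊤ : Subgroup (Over.mk (Red.geomPt s) ⟶ G)).lowerCentralSeries n = ⊥) ∧
    (Red.IsSolvableGrp (Red.geomFibre s G) ↔
      ∃ n, derivedSeries (Over.mk (Red.geomPt s) ⟶ G) n = ⊥) := by
  let K := AlgebraicClosure (S.residueField s)
  let H := Red.geomFibre s G
  let Op : Over (Spec (CommRingCat.of K)) := Over.mk (Spec.map (CommRingCat.ofHom (algebraMap K K)))
  have hid : Spec.map (CommRingCat.ofHom (algebraMap K K)) = 𝟙 (Spec (CommRingCat.of K)) := by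
    rw [Algebra.algebraMap_self, CommRingCat.ofHom_id, Spec.map_id]
  let e : (Over.map (Red.geomPt s)).obj Op ≅ Over.mk (Red.geomPt s) :=
    Over.isoMk (Iso.refl _) (by
      show 𝟙 _ ≫ Red.geomPt s = Spec.map _ ≫ Red.geomPt s
      rw [hid])
  let E : (Op ⟶ H) ≃* (Over.mk (Red.geomPt s) ⟶ G) :=
    (GrothLib.DiagGrp.bcPointMulEquiv (Red.geomPt s) G Op).symm.trans (congrSrc G e)
  have key := fun n => Groth.Agent.S5366.result K H K n
  constructor
  · refine exists_congr fun n => ?_
    simp only [← Subgroup.lowerCentralSeries_eq_bot_iff_upperCentralSeries_eq_top]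
    rw [(key n).2]
    exact lower_congr E n
  · refine exists_congr fun n => ?_
    rw [(key n).1]
    exact derived_congr E n

/-- Bounds for geometric fibres over an affine open of the base. -/
theorem exists_bound {U : S.Opens} (hU : IsAffineOpen U) :
    ∃ M : ℕ, ∀ s ∈ U,
      ((∃ n, (⊤ : Subgroup (Over.mk (Red.geomPt s) ⟶ G)).lowerCentralSeries n = ⊥) →
        (⊤ : Subgroup (Over.mk (Red.geomPt s) ⟶ G)).lowerCentralSeries M = ⊥) ∧
      ((∃ n, derivedSeries (Over.mk (Red.geomPt s) ⟶ G) n = ⊥) →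
        derivedSeries (Over.mk (Red.geomPt s) ⟶ G) M = ⊥) := by
  obtain ⟨N, d, hb⟩ := exists_bound_fibres G.hom hU
  refine ⟨N + d + 1, fun s hs => ?_⟩
  let K := AlgebraicClosure (S.residueField s)
  let H := Red.geomFibre s G
  haveI : LocallyOfFiniteType H.hom := inferInstanceAs (LocallyOfFiniteType (pullback.snd _ _))
  have hrange : Set.range (Red.geomPt s).base ⊆ (U : Set S) := by
    rintro _ ⟨z, rfl⟩
    show (Red.geomPt s).base z ∈ (U : Set S)
    have : (Red.geomPt s).base z = s := Scheme.fromSpecResidueField_apply s _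
    rw [this]; exact hs
  obtain ⟨h1, h2⟩ := hb K (Red.geomPt s) hrange
  obtain ⟨b1, b2⟩ := bounds H N d h1 h2
  let e : (Over.map (Red.geomPt s)).obj (Over.mk (𝟙 (Spec (CommRingCat.of K)))) ≅ Over.mk (Red.geomPt s) :=
    Over.isoMk (Iso.refl _) rfl
  let E : (Over.mk (𝟙 (Spec (CommRingCat.of K))) ⟶ H) ≃* (Over.mk (Red.geomPt s) ⟶ G) :=
    (GrothLib.DiagGrp.bcPointMulEquiv (Red.geomPt s) G _).symm.trans (congrSrc G e)
  exact ⟨fun ⟨n, hn⟩ => (lower_congr E _).mp (b1 ⟨n, (lower_congr E n).mpr hn⟩),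
    fun ⟨n, hn⟩ => (derived_congr E _).mp (b2 ⟨n, (derived_congr E n).mpr hn⟩)⟩

omit [QuasiCompact G.hom] [QuasiSeparated G.hom] [LocallyOfFinitePresentation G.hom] in
theorem unit_section : η[G].left ≫ G.hom = 𝟙 S := Over.w η[G]

omit [LocallyOfFinitePresentation G.hom] [QuasiCompact G.hom] [QuasiSeparated G.hom] in
theorem exists_lift_of_immersion {Z X : Scheme.{u}} (i : Z ⟶ X) [IsImmersion i] {K : Type u} [Field K]
    (x : Spec (CommRingCat.of K) ⟶ X) (z : Z) (hz : i.base z = x.base (IsLocalRing.closedPoint K)) :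
    ∃ l : Spec (CommRingCat.of K) ⟶ Z, l ≫ i = x := by
  let j := pullback.snd i x
  haveI : IsImmersion j := inferInstanceAs (IsImmersion (pullback.snd i x))
  obtain ⟨z₀, -⟩ := Scheme.Pullback.exists_preimage_pullback (f := i) (g := x) z (IsLocalRing.closedPoint K) hz
  haveI : Surjective j := ⟨fun y => ⟨z₀, Subsingleton.elim (α := PrimeSpectrum K) _ _⟩⟩
  haveI : IsClosedImmersion j := IsClosedImmersion.of_isPreimmersion j (by
    rw [Set.range_eq_univ.mpr j.surjective]; exact isClosed_univ)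
  haveI : IsIso j := isIso_of_isClosedImmersion_of_surjective j
  exact ⟨inv j ≫ pullback.fst i x, by rw [Category.assoc, pullback.condition, IsIso.inv_hom_id_assoc]⟩

omit [LocallyOfFinitePresentation G.hom] [QuasiCompact G.hom] [QuasiSeparated G.hom] in
theorem comp_eq_one_of_mem_range {P : Over S} (w : P ⟶ G) [IsImmersion (pullback.fst w.left η[G].left)]
    {K : Type u} [Field K] (q : Spec (CommRingCat.of K) ⟶ S) (x : Over.mk q ⟶ P)
    (z : ↥(pullback w.left η[G].left))
    (hz : (pullback.fst w.left η[G].left).base z = x.left.base (IsLocalRing.closedPoint K)) : x ≫ w = 1 := by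
  obtain ⟨l, hl⟩ := exists_lift_of_immersion (pullback.fst w.left η[G].left) x.left z hz
  refine Over.OverMorphism.ext ?_
  show x.left ≫ w.left = (toUnit (Over.mk q)).left ≫ η[G].left
  rw [← hl, Category.assoc, pullback.condition, ← Category.assoc]
  congr 1
  have h2 : (l ≫ pullback.snd w.left η[G].left) ≫ η[G].left ≫ G.hom = x.left ≫ P.hom := by
    rw [Category.assoc, ← pullback.condition_assoc, ← hl, Category.assoc, Over.w w]
  rw [unit_section G] at h2
  exact (Category.comp_id _).symm.trans (h2.trans (Over.w x))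

set_option maxHeartbeats 800000 in
/-- The points over which the word does not vanish. -/
theorem exists_nonvanishing {P : Over S} [LocallyOfFinitePresentation P.hom] (w : P ⟶ G) :
    ∃ C : Set P.left, Topology.IsLocallyConstructible C ∧ (IsSeparated G.hom → IsOpen C) ∧
      ∀ s : S, (∀ x : Over.mk (Red.geomPt s) ⟶ P, x ≫ w = 1) ↔ s ∉ P.hom '' C := by
  have hη : η[G].left ≫ G.hom = 𝟙 S := unit_section G
  haveI : IsImmersion η[G].left := by
    haveI : IsImmersion (η[G].left ≫ G.hom) := by rw [hη]; exact inferInstanceAs (IsImmersion (𝟙 S))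
    exact IsImmersion.of_comp η[G].left G.hom
  haveI : LocallyOfFinitePresentation η[G].left :=
    GrothLib.DiagGrp.lfp_of_comp_of_lft η[G].left G.hom (by rw [hη]; exact inferInstanceAs (LocallyOfFinitePresentation (𝟙 S))) inferInstance
  haveI : QuasiCompact η[G].left := by
    haveI : QuasiCompact (η[G].left ≫ G.hom) := by rw [hη]; exact inferInstanceAs (QuasiCompact (𝟙 S))
    exact QuasiCompact.of_comp η[G].left G.hom
  let i := pullback.fst w.left η[G].left
  haveI : IsImmersion i := inferInstanceAs (IsImmersion (pullback.fst w.left η[G].left))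
  haveI : LocallyOfFinitePresentation i := inferInstanceAs (LocallyOfFinitePresentation (pullback.fst w.left η[G].left))
  haveI : QuasiCompact i := inferInstanceAs (QuasiCompact (pullback.fst w.left η[G].left))
  have hZ : Topology.IsLocallyConstructible (Set.range i) := by
    rw [← Set.image_univ]
    exact i.isLocallyConstructible_image Topology.IsConstructible.univ.isLocallyConstructible
  refine ⟨(Set.range i)ᶜ, GrothLib.Constr.isLocallyConstructible_compl hZ, fun hsep => ?_, fun s => ⟨?_, ?_⟩⟩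
  · haveI := hsep
    haveI : IsClosedImmersion η[G].left := by
      haveI : IsClosedImmersion (η[G].left ≫ G.hom) := by rw [hη]; exact inferInstanceAs (IsClosedImmersion (𝟙 S))
      exact IsClosedImmersion.of_comp η[G].left G.hom
    haveI : IsClosedImmersion i := inferInstanceAs (IsClosedImmersion (pullback.fst w.left η[G].left))
    exact i.isClosedEmbedding.isClosed_range.isOpen_compl
  · rintro hall ⟨p, hp, rfl⟩
    -- a rational point of the geometric fibre outside the equalizer
    let K := AlgebraicClosure (S.residueField (P.hom.base p))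
    let q := Red.geomPt (P.hom.base p)
    obtain ⟨z₀, hz₀, -⟩ := Scheme.Pullback.exists_preimage_pullback (f := P.hom) (g := q) p
      (IsLocalRing.closedPoint K) (Scheme.fromSpecResidueField_apply _ _).symm
    haveI : JacobsonSpace ↥(pullback P.hom q) :=
      LocallyOfFiniteType.jacobsonSpace (Y := Spec _) (pullback.snd P.hom q)
    obtain ⟨O, F, hO, hF, hOF⟩ : IsLocallyClosed (Set.range i) := i.isLocallyClosed_range
    have hne : ∀ W : Set P.left, IsLocallyClosed W → p ∈ W → W ⊆ (Set.range i)ᶜ → False := by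
      intro W hW hpW hWi
      obtain ⟨c, hc, hcc⟩ := nonempty_inter_closedPoints (Z := (pullback.fst P.hom q).base ⁻¹' W)
        ⟨z₀, show (pullback.fst P.hom q).base z₀ ∈ W from hz₀.symm ▸ hpW⟩
        (hW.preimage (pullback.fst P.hom q).continuous)
      let σ := pointOfClosedPoint (pullback.snd P.hom q) c hcc
      let x : Over.mk q ⟶ P := Over.homMk (σ ≫ pullback.fst P.hom q) (by
        show (σ ≫ pullback.fst P.hom q) ≫ P.hom = q
        rw [Category.assoc, pullback.condition, ← Category.assoc]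
        exact (congrArg (· ≫ q) (pointOfClosedPoint_comp (pullback.snd P.hom q) c hcc)).trans (Category.id_comp q))
      have h1 := congrArg CommaMorphism.left (hall x)
      have hw : (σ ≫ pullback.fst P.hom q) ≫ w.left = (toUnit (Over.mk q)).left ≫ η[G].left := by
        exact h1.trans rfl
      have : (pullback.fst P.hom q).base c ∈ Set.range i := by
        refine ⟨(pullback.lift _ _ hw).base (IsLocalRing.closedPoint K), ?_⟩
        exact (congrArg (fun m : Spec (CommRingCat.of K) ⟶ P.left => m.base (IsLocalRing.closedPoint K))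
          (pullback.lift_fst _ _ hw)).trans
          (congrArg (pullback.fst P.hom q).base (pointOfClosedPoint_apply _ _ hcc _))
      exact hWi hc this
    by_cases hpO : p ∈ O
    · exact hne (O ∩ Fᶜ) (hO.inter hF.isOpen_compl).isLocallyClosed ⟨hpO, fun hpF => hp (hOF ▸ ⟨hpO, hpF⟩)⟩
        (fun y hy h => hy.2 (hOF ▸ h).2)
    · exact hne Oᶜ hO.isClosed_compl.isLocallyClosed hpO (fun y hy h => hy (hOF ▸ h).1)
  · intro hs x
    let K := AlgebraicClosure (S.residueField s)
    by_cases hp : ∃ z, (pullback.fst w.left η[G].left).base z = x.left.base (IsLocalRing.closedPoint K)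
    · obtain ⟨z, hz⟩ := hp
      exact comp_eq_one_of_mem_range G w (Red.geomPt s) x z hz
    · refine absurd ⟨x.left.base (IsLocalRing.closedPoint K), hp, ?_⟩ hs
      exact (congrArg (fun m : Spec (CommRingCat.of K) ⟶ S => m.base (IsLocalRing.closedPoint K)) (Over.w x)).trans
        (Scheme.fromSpecResidueField_apply s _)

end GrothLib.GrpClass19
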