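import Mathlib.Topology.Irreducible
import Mathlib.Topology.KrullDimension
import Mathlib.GroupTheory.Nilpotent
import Mathlib.GroupTheory.Solvable

/-!
# Uniform bounds on nilpotency class and derived length for groups with a Zariski-like topology

For a group with a topology in which translations, inversion and the slices of the commutator are
continuous, with at most `N` irreducible components and Krull dimension `≤ d`, nilpotent implies
nilpotent of class `≤ N + d + 1`, and solvable implies derived length `≤ N + d + 1`.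
-/

set_option autoImplicit false
set_option linter.style.haveILetI false
open scoped commutatorElement

namespace GrothLib.GrpClass19

universe v
variable {Γ : Type v} [Group Γ] [TopologicalSpace Γ]

/-- The continuity properties of the group of rational points of an algebraic group. -/
structure SepCont (Γ : Type v) [Group Γ] [TopologicalSpace Γ] : Prop where
  inv : Continuous fun g : Γ => g⁻¹
  mul_left : ∀ g : Γ, Continuous fun h => g * h
  mul_right : ∀ g : Γ, Continuous fun h => h * g
  comm : ∀ g : Γ, Continuous fun h : Γ => ⁅g, h⁆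
  isClosed_one : IsClosed ({1} : Set Γ)

theorem SepCont.comm' (hc : SepCont Γ) (g : Γ) : Continuous fun h : Γ => ⁅h, g⁆ := by
  have : (fun h : Γ => ⁅h, g⁆) = fun h => (⁅g, h⁆)⁻¹ := funext fun h => (commutatorElement_inv g h).symm
  rw [this]
  exact hc.inv.comp (hc.comm g)

theorem isPreirreducible_image2 {X Y Z : Type*} [TopologicalSpace X] [TopologicalSpace Y]
    [TopologicalSpace Z] {A : Set X} {B : Set Y} (hA : IsPreirreducible A) (hB : IsPreirreducible B)
    {f : X → Y → Z} (h1 : ∀ a, Continuous (f a)) (h2 : ∀ b, Continuous fun a => f a b) :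
    IsPreirreducible (Set.image2 f A B) := by
  rw [isPreirreducible_iff_isClosed_union_isClosed]
  intro C D hC hD hsub
  have key : ∀ a ∈ A, f a '' B ⊆ C ∨ f a '' B ⊆ D := fun a ha =>
    isPreirreducible_iff_isClosed_union_isClosed.mp (hB.image (f a) (h1 a).continuousOn) C D hC hD
      ((Set.image_subset_image2_right ha).trans hsub)
  have hcl : ∀ E : Set Z, IsClosed E → IsClosed {a | ∀ b ∈ B, f a b ∈ E} := fun E hE => by
    simp only [Set.ofPred_forall]
    exact isClosed_biInter fun b _ => hE.preimage (h2 b)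
  rcases isPreirreducible_iff_isClosed_union_isClosed.mp hA _ _ (hcl C hC) (hcl D hD)
      (fun a ha => (key a ha).imp (fun h b hb => h ⟨b, hb, rfl⟩) (fun h b hb => h ⟨b, hb, rfl⟩)) with h | h
  · exact Or.inl (Set.image2_subset_iff.mpr fun a ha b hb => h ha b hb)
  · exact Or.inr (Set.image2_subset_iff.mpr fun a ha b hb => h ha b hb)

/-- The closure of a subgroup. -/
def cl (hc : SepCont Γ) (K : Subgroup Γ) : Subgroup Γ where
  carrier := closure (K : Set Γ)
  one_mem' := subset_closure K.one_mem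
  inv_mem' {x} hx := map_mem_closure hc.inv hx fun _ h => K.inv_mem h
  mul_mem' {x y} hx hy := by
    have h : ∀ a ∈ (K : Set Γ), a * y ∈ closure (K : Set Γ) := fun a ha =>
      map_mem_closure (hc.mul_left a) hy fun b hb => K.mul_mem ha hb
    have := map_mem_closure (hc.mul_right y) hx h
    rwa [closure_closure] at this

theorem cl_eq_of_le (hc : SepCont Γ) {A B : Subgroup Γ} (hAB : A ≤ B) (h : B ≤ cl hc A) :
    cl hc A = cl hc B :=
  SetLike.coe_injective (le_antisymm (closure_mono hAB)
    ((closure_mono h).trans_eq closure_closure))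

theorem isPreirreducible_closure_of (hc : SepCont Γ) {ι : Type*} (S : Set Γ) (V : ι → Set Γ)
    (hV : ∀ i, IsPreirreducible (V i)) (h1 : ∀ i, (1 : Γ) ∈ V i) (hS : ∀ x ∈ S, ∃ i, x ∈ V i)
    (hVS : ∀ i, V i ⊆ (Subgroup.closure S : Set Γ)) :
    IsPreirreducible (Subgroup.closure S : Set Γ) := by
  have key : ∀ x ∈ Subgroup.closure S, ∃ A : Set Γ,
      IsPreirreducible A ∧ (1 : Γ) ∈ A ∧ x ∈ A ∧ A ⊆ (Subgroup.closure S : Set Γ) := by
    intro x hx
    induction hx using Subgroup.closure_induction with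
    | mem x hx => obtain ⟨i, hi⟩ := hS x hx; exact ⟨V i, hV i, h1 i, hi, hVS i⟩
    | one => exact ⟨{1}, isPreirreducible_singleton, rfl, rfl, by simp⟩
    | mul x y _ _ hx hy =>
      obtain ⟨A, hA, hA1, hxA, hAS⟩ := hx
      obtain ⟨B, hB, hB1, hyB, hBS⟩ := hy
      exact ⟨Set.image2 (fun a b => a * b) A B, isPreirreducible_image2 hA hB hc.mul_left hc.mul_right,
        ⟨1, hA1, 1, hB1, one_mul 1⟩, ⟨x, hxA, y, hyB, rfl⟩,
        Set.image2_subset_iff.mpr fun a ha b hb => Subgroup.mul_mem _ (hAS ha) (hBS hb)⟩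
    | inv x _ hx =>
      obtain ⟨A, hA, hA1, hxA, hAS⟩ := hx
      exact ⟨(fun a => a⁻¹) '' A, hA.image _ hc.inv.continuousOn, ⟨1, hA1, inv_one⟩, ⟨x, hxA, rfl⟩,
        Set.image_subset_iff.mpr fun a ha => Subgroup.inv_mem _ (hAS ha)⟩
  intro U W hU hW ⟨x, hxS, hxU⟩ ⟨y, hyS, hyW⟩
  obtain ⟨A, hA, hA1, hxA, hAS⟩ := key x hxS
  obtain ⟨B, hB, hB1, hyB, hBS⟩ := key y hyS
  obtain ⟨z, hz, hzUW⟩ := isPreirreducible_image2 hA hB hc.mul_left hc.mul_right U W hU hW
    ⟨x, ⟨x, hxA, 1, hB1, mul_one x⟩, hxU⟩ ⟨y, ⟨1, hA1, y, hyB, one_mul y⟩, hyW⟩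
  obtain ⟨a, ha, b, hb, rfl⟩ := hz
  exact ⟨a * b, Subgroup.mul_mem _ (hAS ha) (hBS hb), hzUW⟩

theorem isPreirreducible_commutator (hc : SepCont Γ) (K H : Subgroup Γ)
    (hH : IsPreirreducible (H : Set Γ)) : IsPreirreducible ((⁅K, H⁆ : Subgroup Γ) : Set Γ) := by
  rw [Subgroup.commutator_def]
  refine isPreirreducible_closure_of hc _ (fun g : K => (fun h => ⁅(g : Γ), h⁆) '' (H : Set Γ))
    (fun g => hH.image _ (hc.comm g).continuousOn) (fun g => ⟨1, H.one_mem, by simp⟩) ?_ ?_
  · rintro x ⟨g, hg, h, hh, rfl⟩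
    exact ⟨⟨g, hg⟩, h, hh, rfl⟩
  · rintro g x ⟨h, hh, rfl⟩
    exact Subgroup.subset_closure ⟨g, g.2, h, hh, rfl⟩

/-- A translation- and inversion-stable situation: images of components under homeomorphisms. -/
theorem image_mem_irreducibleComponents {X : Type*} [TopologicalSpace X] (e : X ≃ₜ X) {Z : Set X}
    (hZ : Z ∈ irreducibleComponents X) : e '' Z ∈ irreducibleComponents X := by
  refine ⟨hZ.1.image e e.continuous.continuousOn, fun W hW hle => ?_⟩
  intro w hw
  exact ⟨e.symm w, hZ.2 (hW.image e.symm e.symm.continuous.continuousOn)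
    (fun z hz => ⟨e z, hle ⟨z, hz, rfl⟩, e.symm_apply_apply z⟩) ⟨w, hw, rfl⟩, e.apply_symm_apply w⟩

/-- The identity component: a normal subgroup, irreducible, of index at most the number of components. -/
theorem exists_neutral (hc : SepCont Γ) (hfin : (irreducibleComponents Γ).Finite) :
    ∃ (C : Subgroup Γ) (_ : C.Normal), IsPreirreducible (C : Set Γ) ∧ Finite (Γ ⧸ C) ∧
      Nat.card (Γ ⧸ C) ≤ (irreducibleComponents Γ).ncard := by
  classical
  let L : Γ → Γ ≃ₜ Γ := fun g =>
    { Equiv.mulLeft g with continuous_toFun := hc.mul_left g, continuous_invFun := hc.mul_left g⁻¹ }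
  let J : Γ → Γ ≃ₜ Γ := fun g =>
    { (MulAut.conj g).toEquiv with
      continuous_toFun := (hc.mul_right g⁻¹).comp (hc.mul_left g)
      continuous_invFun := (hc.mul_right g).comp (hc.mul_left g⁻¹) }
  let I : Γ ≃ₜ Γ := { Equiv.inv Γ with continuous_toFun := hc.inv, continuous_invFun := hc.inv }
  -- a point on a single component
  obtain ⟨C₁, hC₁⟩ : ∃ Z, Z ∈ irreducibleComponents Γ :=
    ⟨_, irreducibleComponent_mem_irreducibleComponents 1⟩
  have hp : ∃ p ∈ C₁, ∀ W ∈ irreducibleComponents Γ, p ∈ W → W = C₁ := by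
    by_contra! hcon
    have hsub : C₁ ⊆ ⋃₀ ↑(hfin.toFinset.erase C₁) := fun p hp => by
      obtain ⟨W, hW, hpW, hne⟩ := hcon p hp
      exact ⟨W, Finset.mem_coe.mpr (Finset.mem_erase.mpr ⟨hne, hfin.mem_toFinset.mpr hW⟩), hpW⟩
    obtain ⟨W, hW, hCW⟩ := isIrreducible_iff_sUnion_isClosed.mp hC₁.1 _
      (fun W hW => isClosed_of_mem_irreducibleComponents W
        (hfin.mem_toFinset.mp (Finset.mem_of_mem_erase hW))) hsub
    obtain ⟨hne, hW'⟩ := Finset.mem_erase.mp hW
    exact hne (le_antisymm (hC₁.2 (hfin.mem_toFinset.mp hW').1 hCW) hCW)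
  obtain ⟨p, -, hp⟩ := hp
  have huniq : ∀ (x : Γ) (Z W : Set Γ), Z ∈ irreducibleComponents Γ → W ∈ irreducibleComponents Γ →
      x ∈ Z → x ∈ W → Z = W := by
    intro x Z W hZ hW hxZ hxW
    have h : ∀ V ∈ irreducibleComponents Γ, x ∈ V → (L (p * x⁻¹)) '' V = C₁ := fun V hV hxV =>
      hp _ (image_mem_irreducibleComponents _ hV) ⟨x, hxV, inv_mul_cancel_right p x⟩
    exact (L (p * x⁻¹)).injective.image_injective ((h Z hZ hxZ).trans (h W hW hxW).symm)
  let C₀ : Set Γ := irreducibleComponent (1 : Γ)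
  have hC₀ : C₀ ∈ irreducibleComponents Γ := irreducibleComponent_mem_irreducibleComponents 1
  have h1 : (1 : Γ) ∈ C₀ := mem_irreducibleComponent
  let C : Subgroup Γ :=
    { carrier := C₀
      one_mem' := h1
      inv_mem' := fun {x} hx => huniq 1 _ _ (image_mem_irreducibleComponents I hC₀) hC₀
        ⟨1, h1, inv_one⟩ h1 ▸ Set.mem_image_of_mem I hx
      mul_mem' := fun {x y} hx hy => huniq x _ _ (image_mem_irreducibleComponents (L x) hC₀) hC₀
        ⟨1, h1, mul_one x⟩ hx ▸ Set.mem_image_of_mem (L x) hy }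
  have hN : C.Normal := ⟨fun n hn g => by
    have hJ : (J g) '' C₀ = C₀ := huniq 1 _ _ (image_mem_irreducibleComponents (J g) hC₀) hC₀
      ⟨1, h1, map_one (MulAut.conj g)⟩ h1
    change g * n * g⁻¹ ∈ C₀
    rw [← hJ]
    exact ⟨n, hn, rfl⟩⟩
  haveI := hfin.to_subtype
  let ψ : Γ ⧸ C → irreducibleComponents Γ := fun q =>
    ⟨(L q.out) '' C₀, image_mem_irreducibleComponents _ hC₀⟩
  have hψ : Function.Injective ψ := fun q r h => by
    have h' : (L q.out) '' C₀ = (L r.out) '' C₀ := congrArg Subtype.val h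
    obtain ⟨c, hc', hcr⟩ : r.out ∈ (L q.out) '' C₀ := h' ▸ ⟨1, h1, mul_one _⟩
    rw [← q.out_eq', ← r.out_eq', QuotientGroup.eq]
    have : q.out * c = r.out := hcr
    rw [← this, inv_mul_cancel_left]
    exact hc'
  exact ⟨C, hN, (isIrreducible_irreducibleComponent (x := (1 : Γ))).2, Finite.of_injective ψ hψ,
    (Nat.card_le_card_of_injective ψ hψ).trans_eq (Nat.card_coe_set_eq _)⟩

theorem eq_bot_of_card_le {Q : Type*} [Group Q] [Finite Q] (f : ℕ → Subgroup Q) (hf : Antitone f)
    (hstat : ∀ i, f (i + 1) = f i → f (i + 2) = f (i + 1)) (hev : ∃ m, f m = ⊥) (N : ℕ)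
    (hN : Nat.card Q ≤ N) : f N = ⊥ := by
  obtain ⟨m, hm⟩ := hev
  have key : ∀ i, f i = ⊥ ∨ Nat.card (f i) + i ≤ Nat.card Q := by
    intro i
    induction i with
    | zero => exact Or.inr (by simpa using Subgroup.card_le_card_group (f 0))
    | succ i ih =>
      rcases eq_or_ne (f (i + 1)) (f i) with he | hne
      · left
        have hall : ∀ j, f (i + j + 1) = f (i + j) := by
          intro j
          induction j with
          | zero => exact he
          | succ j ihj => exact hstat _ ihj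
        have hconst : ∀ j, f (i + j) = f i := by
          intro j
          induction j with
          | zero => rfl
          | succ j ihj => exact (hall j).trans ihj
        rw [he, ← hconst m, eq_bot_iff, ← hm]
        exact hf (Nat.le_add_left m i)
      · rcases ih with hb | hle
        · exact Or.inl (le_bot_iff.mp ((hf (Nat.le_succ i)).trans hb.le))
        · right
          have : Nat.card (f (i + 1)) < Nat.card (f i) :=
            Set.Finite.card_lt_card (Set.toFinite _) ((hf (Nat.le_succ i)).lt_of_ne hne)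
          omega
  rcases key (Nat.card Q) with hb | hle
  · exact le_bot_iff.mp ((hf hN).trans hb.le)
  · have := Nat.card_pos (α := f (Nat.card Q)); omega

theorem exists_cl_eq (hc : SepCont Γ) (H : ℕ → Subgroup Γ) (hH : Antitone H)
    (hirr : ∀ i, IsPreirreducible (H i : Set Γ)) (d : ℕ) (hd : topologicalKrullDim Γ ≤ (d : WithBot ℕ∞)) :
    ∃ i ≤ d, cl hc (H (i + 1)) = cl hc (H i) := by
  by_contra! hne
  let f : ℕ → TopologicalSpace.IrreducibleCloseds Γ := fun i =>
    ⟨closure (H i : Set Γ), IsIrreducible.closure ⟨⟨1, (H i).one_mem⟩, hirr i⟩, isClosed_closure⟩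
  have hlt : ∀ i, i ≤ d → f (i + 1) < f i := fun i hi => by
    refine lt_of_le_of_ne (closure_mono (hH (Nat.le_succ i))) fun h => hne i hi (SetLike.coe_injective ?_)
    exact congrArg (fun Z : TopologicalSpace.IrreducibleCloseds Γ => (Z : Set Γ)) h
  let s : LTSeries (TopologicalSpace.IrreducibleCloseds Γ) :=
    LTSeries.mk (d + 1) (fun j => f (d + 1 - j)) (Fin.strictMono_iff_lt_succ.mpr fun j => by
      simp only [Fin.val_castSucc, Fin.val_succ]
      have hj := j.isLt
      rw [show d + 1 - (j : ℕ) = (d - j) + 1 by omega, show d + 1 - ((j : ℕ) + 1) = d - j by omega]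
      exact hlt _ (Nat.sub_le d j))
  have h1 : ((d + 1 : ℕ) : WithBot ℕ∞) ≤ topologicalKrullDim Γ := Order.LTSeries.length_le_krullDim s
  have h2 : ((d + 1 : ℕ) : WithBot ℕ∞) ≤ (d : WithBot ℕ∞) := h1.trans hd
  have h3 : d + 1 ≤ d := by exact_mod_cast h2
  omega

theorem eq_bot_of_dim_le (hc : SepCont Γ) (H : ℕ → Subgroup Γ) (hH : Antitone H)
    (hirr : ∀ i, IsPreirreducible (H i : Set Γ))
    (hstat : ∀ i, H i ≤ cl hc (H (i + 1)) → H (i + 1) ≤ cl hc (H (i + 2))) (hev : ∃ m, H m = ⊥)
    (d : ℕ) (hd : topologicalKrullDim Γ ≤ (d : WithBot ℕ∞)) : H (d + 1) = ⊥ := by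
  obtain ⟨m, hm⟩ := hev
  obtain ⟨i, hi, he⟩ := exists_cl_eq hc H hH hirr d hd
  have hall : ∀ j, H (i + j) ≤ cl hc (H (i + j + 1)) := by
    intro j
    induction j with
    | zero => rw [Nat.add_zero, he]; exact fun x hx => subset_closure hx
    | succ j ihj => exact hstat _ ihj
  have hconst : ∀ j, cl hc (H (i + j)) = cl hc (H i) := by
    intro j
    induction j with
    | zero => rfl
    | succ j ihj => exact (cl_eq_of_le hc (hH (Nat.le_succ _)) (hall j)).trans ihj
  rw [eq_bot_iff]
  intro x hx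
  have hx1 : x ∈ cl hc (H (i + m)) := by rw [hconst m]; exact subset_closure (hH (by omega : i ≤ d + 1) hx)
  have hbot : H (i + m) = ⊥ := le_bot_iff.mp ((hH (Nat.le_add_left m i)).trans hm.le)
  change x ∈ closure (H (i + m) : Set Γ) at hx1
  rw [hbot, Subgroup.coe_bot, hc.isClosed_one.closure_eq] at hx1
  exact hx1

theorem lowerCentralSeries_eq_bot (hc : SepCont Γ) (N d : ℕ) (hfin : (irreducibleComponents Γ).Finite)
    (hN : (irreducibleComponents Γ).ncard ≤ N) (hd : topologicalKrullDim Γ ≤ (d : WithBot ℕ∞))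
    (hnil : ∃ m, (⊤ : Subgroup Γ).lowerCentralSeries m = ⊥) :
    (⊤ : Subgroup Γ).lowerCentralSeries (N + d + 1) = ⊥ := by
  obtain ⟨m, hm⟩ := hnil
  obtain ⟨C, hC, hirrC, hfQ, hcard⟩ := exists_neutral hc hfin
  let π := QuotientGroup.mk' C
  have hmapQ : ∀ i, ((⊤ : Subgroup Γ).lowerCentralSeries i).map π = (⊤ : Subgroup (Γ ⧸ C)).lowerCentralSeries i := by
    intro i
    induction i with
    | zero => simpa using Subgroup.map_top_of_surjective π (QuotientGroup.mk'_surjective C)
    | succ i ih =>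
      rw [Subgroup.lowerCentralSeries_succ, Subgroup.lowerCentralSeries_succ, Subgroup.map_commutator, ih,
        Subgroup.map_top_of_surjective π (QuotientGroup.mk'_surjective C)]
  have hq := eq_bot_of_card_le (fun i => (⊤ : Subgroup (Γ ⧸ C)).lowerCentralSeries i)
    (Subgroup.lowerCentralSeries_antitone _)
    (fun i h => (congrArg (fun K => ⁅K, (⊤ : Subgroup (Γ ⧸ C))⁆) h : _)) 
    ⟨m, by simp only [← hmapQ, hm, Subgroup.map_bot]⟩ N (hcard.trans hN)
  have hbase : (⊤ : Subgroup Γ).lowerCentralSeries N ≤ C := fun x hx => by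
    have hx' : π x ∈ (⊤ : Subgroup (Γ ⧸ C)).lowerCentralSeries N := hmapQ N ▸ Subgroup.mem_map_of_mem π hx
    rw [hq, Subgroup.mem_bot] at hx'
    exact (QuotientGroup.eq_one_iff x).mp hx'
  let H : ℕ → Subgroup Γ := fun i => i.rec C fun _ K => ⁅(⊤ : Subgroup Γ), K⁆
  have hnorm : ∀ i, (H i).Normal := by
    intro i
    induction i with
    | zero => exact hC
    | succ i ih => exact Subgroup.commutator_normal _ _
  have hle : ∀ i, H i ≤ (⊤ : Subgroup Γ).lowerCentralSeries i := by
    intro i
    induction i with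
    | zero => exact le_top
    | succ i ih =>
      rw [Subgroup.lowerCentralSeries_succ]
      exact (Subgroup.commutator_comm_le _ _).trans (Subgroup.commutator_mono ih le_rfl)
  have hge : ∀ i, (⊤ : Subgroup Γ).lowerCentralSeries (N + i) ≤ H i := by
    intro i
    induction i with
    | zero => exact hbase
    | succ i ih =>
      rw [← Nat.add_assoc, Subgroup.lowerCentralSeries_succ]
      exact (Subgroup.commutator_mono ih le_rfl).trans (Subgroup.commutator_comm_le _ _)
  have hbot := eq_bot_of_dim_le hc H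
    (antitone_nat_of_succ_le fun i => by haveI := hnorm i; exact Subgroup.commutator_le_right _ _)
    (fun i => by
      induction i with
      | zero => exact hirrC
      | succ i ih => exact isPreirreducible_commutator hc _ _ ih)
    (fun i hi => Subgroup.commutator_le.mpr fun g _ h hh =>
      map_mem_closure (hc.comm g) (hi hh) fun b hb =>
        Subgroup.commutator_mem_commutator (Subgroup.mem_top g) hb)
    ⟨m, le_bot_iff.mp ((hle m).trans hm.le)⟩ d hd
  exact le_bot_iff.mp ((Nat.add_assoc N d 1 ▸ hge (d + 1)).trans hbot.le)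

theorem derivedSeries_eq_bot (hc : SepCont Γ) (N d : ℕ) (hfin : (irreducibleComponents Γ).Finite)
    (hN : (irreducibleComponents Γ).ncard ≤ N) (hd : topologicalKrullDim Γ ≤ (d : WithBot ℕ∞))
    (hsol : ∃ m, derivedSeries Γ m = ⊥) : derivedSeries Γ (N + d + 1) = ⊥ := by
  obtain ⟨m, hm⟩ := hsol
  obtain ⟨C, hC, hirrC, hfQ, hcard⟩ := exists_neutral hc hfin
  let π := QuotientGroup.mk' C
  have hmapQ : ∀ i, (derivedSeries Γ i).map π = derivedSeries (Γ ⧸ C) i :=
    map_derivedSeries_eq (QuotientGroup.mk'_surjective C)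
  have hq := eq_bot_of_card_le (fun i => derivedSeries (Γ ⧸ C) i) (derivedSeries_antitone _)
    (fun i h => (congrArg (fun K => ⁅K, K⁆) h : _)) ⟨m, by simp only [← hmapQ, hm, Subgroup.map_bot]⟩
    N (hcard.trans hN)
  have hbase : derivedSeries Γ N ≤ C := fun x hx => by
    have hx' : π x ∈ derivedSeries (Γ ⧸ C) N := hmapQ N ▸ Subgroup.mem_map_of_mem π hx
    rw [hq, Subgroup.mem_bot] at hx'
    exact (QuotientGroup.eq_one_iff x).mp hx'
  let H : ℕ → Subgroup Γ := fun i => i.rec C fun _ K => ⁅K, K⁆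
  have hnorm : ∀ i, (H i).Normal := by
    intro i
    induction i with
    | zero => exact hC
    | succ i ih => exact Subgroup.commutator_normal _ _
  have hle : ∀ i, H i ≤ derivedSeries Γ i := by
    intro i
    induction i with
    | zero => exact le_top
    | succ i ih => rw [derivedSeries_succ]; exact Subgroup.commutator_mono ih ih
  have hge : ∀ i, derivedSeries Γ (N + i) ≤ H i := by
    intro i
    induction i with
    | zero => exact hbase
    | succ i ih => rw [← Nat.add_assoc, derivedSeries_succ]; exact Subgroup.commutator_mono ih ih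
  have hbot := eq_bot_of_dim_le hc H
    (antitone_nat_of_succ_le fun i => by haveI := hnorm i; exact Subgroup.commutator_le_right _ _)
    (fun i => by
      induction i with
      | zero => exact hirrC
      | succ i ih => exact isPreirreducible_commutator hc _ _ ih)
    (fun i hi => Subgroup.commutator_le.mpr fun a ha b hb => by
      have h : ∀ a' ∈ (H (i + 1) : Set Γ), ⁅a', b⁆ ∈ closure (H (i + 2) : Set Γ) := fun a' ha' =>
        map_mem_closure (hc.comm a') (hi hb) fun b' hb' => Subgroup.commutator_mem_commutator ha' hb'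
      have := map_mem_closure (hc.comm' b) (hi ha) h
      rwa [closure_closure] at this)
    ⟨m, le_bot_iff.mp ((hle m).trans hm.le)⟩ d hd
  exact le_bot_iff.mp ((Nat.add_assoc N d 1 ▸ hge (d + 1)).trans hbot.le)

end GrothLib.GrpClass19
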