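import Groth.Agent.Lib.GrpClass19.Locus
import Mathlib.AlgebraicGeometry.Morphisms.UniversallyOpen
import Mathlib.AlgebraicGeometry.Fiber
import Mathlib.AlgebraicGeometry.Morphisms.Smooth

/-!
# The nilpotent and solvable loci
-/

universe u
set_option autoImplicit false
set_option linter.style.haveILetI false
open CategoryTheory CategoryTheory.Limits AlgebraicGeometry MonoidalCategory CartesianMonoidalCategory MonObj GrpObj Topology Set.Notation

namespace GrothLib.GrpClass19

variable {S : Scheme.{u}} (G : Over S) [GrpObj G]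
  [LocallyOfFinitePresentation G.hom] [QuasiCompact G.hom] [QuasiSeparated G.hom]

omit [GrpObj G] [LocallyOfFinitePresentation G.hom] [QuasiCompact G.hom] [QuasiSeparated G.hom] in
theorem smooth_geomFibre (hsm : ∀ s : S, Smooth (G.hom.fiberToSpecResidueField s)) (s : S) :
    Smooth (Red.geomFibre s G).hom := by
  let a := Spec.map (CommRingCat.ofHom (algebraMap (S.residueField s) (AlgebraicClosure (S.residueField s))))
  haveI : Smooth (pullback.snd G.hom (S.fromSpecResidueField s)) := hsm s
  show Smooth (pullback.snd G.hom (a ≫ S.fromSpecResidueField s))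
  rw [← pullbackLeftPullbackSndIso_inv_snd_snd G.hom (S.fromSpecResidueField s) a]
  infer_instance

/-- The nilpotent and the solvable locus are, over each affine open, complements of images. -/
theorem exists_locus (hsm : ∀ s : S, Smooth (G.hom.fiberToSpecResidueField s)) {U : S.Opens}
    (hU : IsAffineOpen U) :
    ∃ (P : Over S) (C : Set P.left) (P' : Over S) (C' : Set P'.left),
      GoodObj G P ∧ GoodObj G P' ∧ Topology.IsLocallyConstructible C ∧ Topology.IsLocallyConstructible C' ∧
      (IsSeparated G.hom → IsOpen C ∧ IsOpen C') ∧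
      ∀ s ∈ U, (AGF.IsNilpotentGrp (Red.geomFibre s G) ↔ s ∉ P.hom '' C) ∧
        (Red.IsSolvableGrp (Red.geomFibre s G) ↔ s ∉ P'.hom '' C') := by
  obtain ⟨M, hM⟩ := exists_bound G hU
  obtain ⟨P, w, hP, hw⟩ := exists_lowerWord G M
  obtain ⟨P', w', hP', hw'⟩ := exists_derivedWord G M
  haveI := hP.1
  haveI := hP'.1
  obtain ⟨C, hC, hCo, hCs⟩ := exists_nonvanishing G w
  obtain ⟨C', hC', hCo', hCs'⟩ := exists_nonvanishing G w'
  refine ⟨P, C, P', C', hP, hP', hC, hC', fun h => ⟨hCo h, hCo' h⟩, fun s hs => ?_⟩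
  haveI := smooth_geomFibre G hsm s
  haveI : QuasiCompact (Red.geomFibre s G).hom := inferInstanceAs (QuasiCompact (pullback.snd _ _))
  obtain ⟨hn, hsol⟩ := geomFibre_iff G s
  constructor
  · rw [hn, ← hCs s, ← closure_range_eq_bot_iff, ← (hw _).1]
    exact ⟨(hM s hs).1, fun h => ⟨M, h⟩⟩
  · rw [hsol, ← hCs' s, ← closure_range_eq_bot_iff, ← (hw' _).1]
    exact ⟨(hM s hs).2, fun h => ⟨M, h⟩⟩

omit [LocallyOfFinitePresentation G.hom] [QuasiCompact G.hom] [QuasiSeparated G.hom] in
theorem isClosed_loci [Smooth G.hom] [QuasiCompact G.hom] [IsSeparated G.hom] :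
    IsClosed {s : S | AGF.IsNilpotentGrp (Red.geomFibre s G)} ∧
      IsClosed {s : S | Red.IsSolvableGrp (Red.geomFibre s G)} := by
  have hsm : ∀ s : S, Smooth (G.hom.fiberToSpecResidueField s) := fun s =>
    inferInstanceAs (Smooth (pullback.snd G.hom (S.fromSpecResidueField s)))
  constructor
  all_goals
    rw [← isOpen_compl_iff, isOpen_iff_forall_mem_open]
    intro s hs
    obtain ⟨U, hU, hsU, -⟩ := exists_isAffineOpen_mem_and_subset (X := S) (x := s) (U := ⊤) trivial
    obtain ⟨P, C, P', C', hP, hP', -, -, hopen, hiff⟩ := exists_locus G hsm hU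
    haveI := hP.1; haveI := hP'.1
    haveI := hP.2.2.2 inferInstance; haveI := hP'.2.2.2 inferInstance
  · exact ⟨(U : Set S) ∩ P.hom '' C, fun t ht hn => ((hiff t ht.1).1.mp hn) ht.2,
      U.isOpen.inter (P.hom.isOpenMap C (hopen inferInstance).1),
      hsU, not_not.mp fun h => hs ((hiff s hsU).1.mpr h)⟩
  · exact ⟨(U : Set S) ∩ P'.hom '' C', fun t ht hn => ((hiff t ht.1).2.mp hn) ht.2,
      U.isOpen.inter (P'.hom.isOpenMap C' (hopen inferInstance).2),
      hsU, not_not.mp fun h => hs ((hiff s hsU).2.mpr h)⟩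

theorem isLocallyConstructible_loci (hsm : ∀ s : S, Smooth (G.hom.fiberToSpecResidueField s)) :
    Topology.IsLocallyConstructible {s : S | Red.IsSolvableGrp (Red.geomFibre s G)} ∧
      Topology.IsLocallyConstructible {s : S | AGF.IsNilpotentGrp (Red.geomFibre s G)} := by
  constructor
  all_goals
    intro s
    obtain ⟨U, hU, hsU, -⟩ := exists_isAffineOpen_mem_and_subset (X := S) (x := s) (U := ⊤) trivial
    obtain ⟨P, C, P', C', hP, hP', hC, hC', -, hiff⟩ := exists_locus G hsm hU
    haveI := hP.1; haveI := hP'.1; haveI := hP.2.1; haveI := hP'.2.1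
  · obtain ⟨V, hV, hVo, hVc⟩ := GrothLib.Constr.isLocallyConstructible_compl
      (P'.hom.isLocallyConstructible_image hC') s
    refine ⟨(U : Set S) ∩ V, Filter.inter_mem (U.isOpen.mem_nhds hsU) hV, U.isOpen.inter hVo, ?_⟩
    have : (((U : Set S) ∩ V) ↓∩ {t : S | Red.IsSolvableGrp (Red.geomFibre t G)}) =
        Set.inclusion Set.inter_subset_right ⁻¹' (V ↓∩ (P'.hom '' C')ᶜ) := by
      ext t
      exact (hiff t.1 t.2.1).2
    rw [this]
    exact hVc.preimage_of_isOpenEmbedding
      (.inclusion _ <| .preimage continuous_subtype_val <| U.isOpen.inter hVo)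
  · obtain ⟨V, hV, hVo, hVc⟩ := GrothLib.Constr.isLocallyConstructible_compl
      (P.hom.isLocallyConstructible_image hC) s
    refine ⟨(U : Set S) ∩ V, Filter.inter_mem (U.isOpen.mem_nhds hsU) hV, U.isOpen.inter hVo, ?_⟩
    have : (((U : Set S) ∩ V) ↓∩ {t : S | AGF.IsNilpotentGrp (Red.geomFibre t G)}) =
        Set.inclusion Set.inter_subset_right ⁻¹' (V ↓∩ (P.hom '' C)ᶜ) := by
      ext t
      exact (hiff t.1 t.2.1).1
    rw [this]
    exact hVc.preimage_of_isOpenEmbedding
      (.inclusion _ <| .preimage continuous_subtype_val <| U.isOpen.inter hVo)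

end GrothLib.GrpClass19
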